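import Cfsg.Agent.H916.Der.FourSylC
import Cfsg.Agent.H439.Der.Three
import Cfsg.Agent.H970.StabK
import Cfsg.Agent.OrdDiv.Main

/-!
# `Sp₄(4)`: auxiliary results for the row (helper916, for S3502)
-/

set_option autoImplicit false

namespace Cfsg.Agent.H916.Der.Four

open Subgroup Cfsg Cfsg.Agent.H439.Der Cfsg.Agent.H938.Sax

/-- no elements of order 4 in `PSL₂(2ᵐ)` -/
theorem psl_no_four {F : Type*} [Field F] [CharP F 2] (x : Matrix.ProjectiveSpecialLinearGroup (Fin 2) F) :
    orderOf x ≠ 4 := by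
  intro h4
  obtain ⟨A, rfl⟩ := QuotientGroup.mk_surjective x
  have h1 : A ^ 4 ∈ center (Matrix.SpecialLinearGroup (Fin 2) F) := by
    rw [← QuotientGroup.eq_one_iff, QuotientGroup.mk_pow, ← h4]
    exact pow_orderOf_eq_one _
  have h20 : (2 : F) = 0 := CharTwo.two_eq_zero
  obtain ⟨r, hr, h2⟩ := Matrix.SpecialLinearGroup.mem_center_iff.1 h1
  have hr1 : r = 1 := by
    rw [Fintype.card_fin] at hr
    exact CharTwo.sq_injective (by simpa using hr)
  obtain ⟨M, hM⟩ : ∃ M : Matrix (Fin 2) (Fin 2) F, M = (A : Matrix (Fin 2) (Fin 2) F) := ⟨_, rfl⟩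
  have hdet : M 0 0 * M 1 1 + M 0 1 * M 1 0 = 1 := by
    have := A.2
    rw [← hM, Matrix.det_fin_two, sub_eq_add_neg, CharTwo.neg_eq] at this
    exact this
  have hM4 : M ^ 4 = 1 := by
    have h3 : ((A ^ 4 : Matrix.SpecialLinearGroup (Fin 2) F) : Matrix (Fin 2) (Fin 2) F) = M ^ 4 := by
      rw [Matrix.SpecialLinearGroup.coe_pow, hM]
    rw [← h3, ← h2, hr1]
    simp
  obtain ⟨t, ht⟩ : ∃ t, t = M 0 0 + M 1 1 := ⟨_, rfl⟩
  have hsq : M * M = t • M + 1 := by
    ext i j
    fin_cases i <;> fin_cases j <;> simp [Matrix.mul_apply, Fin.sum_univ_two, ht]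
    · linear_combination hdet - M 0 0 * M 1 1 * h20
    · ring
    · ring
    · linear_combination hdet - M 0 0 * M 1 1 * h20
  have h5 : (t • M + 1) * (t • M + 1) = 1 := by
    rw [← hsq, ← hM4, pow_succ, pow_succ, pow_succ, pow_one]
    simp only [mul_assoc]
  have e00 := congrFun (congrFun h5 0) 0
  have e11 := congrFun (congrFun h5 1) 1
  simp [Matrix.mul_apply, Fin.sum_univ_two] at e00 e11
  have ht0 : t = 0 := by
    by_contra htn
    have f00 : t ^ 2 * (t * M 0 0 + 1) = 0 := by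
      rw [ht] at e00 ⊢
      linear_combination e00 - (M 0 0 + M 1 1) ^ 2 * hdet - ((M 0 0 + M 1 1) * M 0 0 - (M 0 0 + M 1 1) ^ 2) * h20 +
        ((M 0 0 + M 1 1) ^ 2 * M 0 0 * M 1 1 - (M 0 0 + M 1 1) ^ 2) * h20
    have f11 : t ^ 2 * (t * M 1 1 + 1) = 0 := by
      rw [ht] at e11 ⊢
      linear_combination e11 - (M 0 0 + M 1 1) ^ 2 * hdet - ((M 0 0 + M 1 1) * M 1 1 - (M 0 0 + M 1 1) ^ 2) * h20 +
        ((M 0 0 + M 1 1) ^ 2 * M 0 0 * M 1 1 - (M 0 0 + M 1 1) ^ 2) * h20
    have g00 := (mul_eq_zero.1 f00).resolve_left (pow_ne_zero 2 htn)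
    have g11 := (mul_eq_zero.1 f11).resolve_left (pow_ne_zero 2 htn)
    have g : t * (M 0 0 + M 1 1) = 0 := by linear_combination g00 + g11 - h20
    rw [← ht] at g
    exact htn (mul_self_eq_zero.1 g)
  have h6 : A ^ 2 = 1 := by
    apply Subtype.ext
    show ((A ^ 2 : Matrix.SpecialLinearGroup (Fin 2) F) : Matrix (Fin 2) (Fin 2) F) = 1
    rw [Matrix.SpecialLinearGroup.coe_pow, ← hM, pow_two, hsq, ht0, zero_smul, zero_add]
  have h7 : (QuotientGroup.mk A : Matrix.ProjectiveSpecialLinearGroup (Fin 2) F) ^ 2 = 1 := by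
    rw [← QuotientGroup.mk_pow, h6]
    rfl
  have h8 := orderOf_dvd_of_pow_eq_one h7
  rw [h4] at h8
  norm_num at h8

/-- three classes of elements of prime order (after helper788) -/
theorem threeT_of_le {T : Type*} [Group T] [Finite T] {v n : ℕ} (hv : v.Prime) (hT : v ∣ Nat.card T)
    (h1 : ∀ y : T, orderOf y = v → Nat.card (conjPow y) ≤ n) (hn : 2 * n < v - 1) {M : Subgroup T}
    (hM : ¬ v ∣ Nat.card M) : ThreeT T M := by
  classical
  have := Fact.mk hv
  obtain ⟨x, hx⟩ := exists_prime_orderOf_dvd_card' v hT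
  have hP : Nat.card ({y | y ∈ zpowers x ∧ y ≠ 1} : Set T) = v - 1 := by
    have := Fintype.ofFinite T
    have h2 : ({y | y ∈ zpowers x ∧ y ≠ 1} : Set T) = ↑(((Finset.univ.filter fun y => y ∈ zpowers x).erase 1)) := by
      ext y
      simp only [Set.mem_ofPred_eq, Finset.coe_erase, Finset.coe_filter, Finset.mem_univ, true_and, Set.mem_sdiff,
        Set.mem_singleton_iff]
    rw [h2, Nat.card_coe_set_eq, Set.ncard_coe_finset, Finset.card_erase_of_mem (by simp), ← hx, ← Nat.card_zpowers,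
      Nat.card_eq_fintype_card, Fintype.card_subtype]
  have hord : ∀ y, y ∈ zpowers x → y ≠ 1 → orderOf y = v := by
    intro y hy hy1
    have h2 : orderOf y ∣ v := by rw [← hx]; exact orderOf_dvd_of_mem_zpowers hy
    rcases (Nat.dvd_prime hv).1 h2 with h3 | h3
    · exact absurd (orderOf_eq_one_iff.1 h3) hy1
    · exact h3
  have hzp : ∀ y, y ∈ zpowers x → y ≠ 1 → zpowers y = zpowers x := by
    intro y hy hy1
    refine Subgroup.eq_of_le_of_card_ge (zpowers_le.2 hy) ?_
    rw [Nat.card_zpowers, Nat.card_zpowers, hx, hord y hy hy1]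
  have key : ∀ y : T, orderOf y = v → ∃ z, z ∈ ({y | y ∈ zpowers x ∧ y ≠ 1} : Set T) ∧ z ∉ conjPow x ∧ z ∉ conjPow y := by
    intro y hy
    by_contra hcon
    push Not at hcon
    have h2 : ({y | y ∈ zpowers x ∧ y ≠ 1} : Set T) ⊆ conjPow x ∪ conjPow y := by
      intro z hz
      by_cases h3 : z ∈ conjPow x
      · exact Or.inl h3
      · exact Or.inr (hcon z hz h3)
    have h3 := Nat.card_mono (Set.toFinite (conjPow x ∪ conjPow y)) h2
    have h4 := Set.ncard_union_le (conjPow x) (conjPow y)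
    rw [← Nat.card_coe_set_eq, ← Nat.card_coe_set_eq (conjPow x), ← Nat.card_coe_set_eq (conjPow y)] at h4
    have h5 := h1 x hx
    have h6 := h1 y hy
    rw [hP] at h3
    omega
  obtain ⟨y, ⟨hy, hy1⟩, hyx, -⟩ := key x hx
  obtain ⟨z, ⟨hz, hz1⟩, hzx, hzy⟩ := key y (hord y hy hy1)
  refine ⟨x, y, z, fun g => ?_, fun g => ?_, fun g => ?_, fun g hg => hyx ⟨hy, g, hg⟩, fun g hg => hzx ⟨hz, g, hg⟩,
    fun g hg => hzy ⟨by rw [hzp y hy hy1]; exact hz, g, hg⟩⟩
  · exact not_mem_of_dvd hM (by rw [hx]) (MulAut.conj g)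
  · exact not_mem_of_dvd hM (by rw [hord y hy hy1]) (MulAut.conj g)
  · exact not_mem_of_dvd hM (by rw [hord z hz hz1]) (MulAut.conj g)

/-- a group of order 4080 with the given local data is simple -/
theorem iso_of_4080 {H : Type} [Group H] [Finite H] (h : Nat.card H = 4080)
    (hC : ∀ P : Subgroup H, Nat.card P = 17 → Nat.card (centralizer (P : Set H)) ∣ 17 ∧
      Nat.card (normalizer (P : Set H)) ∣ 68)
    (tbl : ∀ (K : Type) [Group K] [Finite K], IsSimpleGroup K → (¬ ∀ x y : K, x * y = y * x) →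
      Nat.card K ∣ 979200 → Nat.card K ∈ [60, 360, 4080, 2448, 979200]) :
    ∃ (K : Type) (_ : Group K) (_ : Finite K), IsSimpleGroup K ∧ (¬ ∀ x y : K, x * y = y * x) ∧
      Nat.card K = 4080 ∧ Nonempty (H ≃* K) := by
  have hp : Fact (Nat.Prime 17) := ⟨by norm_num⟩
  obtain ⟨x, hx⟩ := exists_prime_orderOf_dvd_card' (G := H) 17 (by rw [h]; norm_num)
  have hP : Nat.card (zpowers x) = 17 := by rw [Nat.card_zpowers, hx]
  obtain ⟨hc, hn⟩ := hC _ hP
  obtain ⟨a, s, c, m, D, h1, h2, h3, h4, h5, h6⟩ := Cfsg.Agent.H970.StabK.exists_struct hP (by rw [h]; norm_num)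
  rw [h] at h1
  rw [h3] at hn
  have hcDm : c * D * m ∣ 4 := by
    have e : c * D * (17 * m) = 17 * (c * D * m) := by ring
    rw [e, show (68 : ℕ) = 17 * 4 by norm_num] at hn
    exact Nat.dvd_of_mul_dvd_mul_left (by norm_num) hn
  rcases h6 with ⟨rfl, rfl⟩ | ⟨K, _, _, hK, hna, hKs, h17, -, -, -, hiso⟩
  · exfalso
    have hac : a * c = 240 := by
      have : 17 * (a * c) = 17 * 240 := by
        rw [show a * 17 * c = 17 * (a * c) by ring] at h1
        omega
      exact Nat.eq_of_mul_eq_mul_left (by norm_num) this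
    have hD4 : D ∣ 4 := (Dvd.intro_left c rfl).trans ((Dvd.intro _ rfl).trans hcDm)
    have hD : D = 1 := by
      have h7 : D ∣ 17 := h4.trans hc
      have := Nat.dvd_gcd hD4 h7
      norm_num at this
      exact this
    obtain ⟨j, hj, h7⟩ := h5 3 (by norm_num)
    have hj0 : j = 0 := by
      rw [hD] at hj
      by_contra hj0
      have h8 := (dvd_pow_self 3 hj0).trans hj
      norm_num at h8
    rw [hj0, pow_zero] at h7
    have ha0 : a ≠ 0 := by
      rintro rfl
      norm_num at hac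
    have ha2 : ¬ 2 ≤ a.factorization 3 := fun h8 => by
      have h9 := ((Nat.Prime.pow_dvd_iff_le_factorization (by norm_num) ha0).2 h8).trans (Dvd.intro c hac)
      norm_num at h9
    have ha1 : a.factorization 3 ≠ 1 := fun h8 => by
      rw [h8] at h7
      exact absurd h7 (by decide)
    have ha3 : ¬ 3 ∣ a := fun h8 => by
      have := (Nat.Prime.dvd_iff_one_le_factorization (by norm_num) ha0).1 h8
      omega
    have h8 : 3 ∣ a * c := by rw [hac]; norm_num
    have h9 : 3 ∣ c := ((Nat.Prime.dvd_mul (by norm_num)).1 h8).resolve_left ha3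
    have h10 : 3 ∣ 4 := h9.trans (((Dvd.intro _ rfl : c ∣ c * D)).trans ((Dvd.intro _ rfl).trans hcDm))
    norm_num at h10
  · have hsd : s ∣ 4080 := by rw [h1]; exact ⟨a * c, by ring⟩
    have h7 := tbl K hK hna (by rw [hKs]; exact hsd.trans (by norm_num))
    rw [hKs] at h7
    have hs : s = 4080 := by
      simp only [List.mem_cons, List.not_mem_nil, or_false] at h7
      rcases h7 with rfl | rfl | rfl | rfl | rfl
      · norm_num at h17
      · norm_num at h17
      · rfl
      · norm_num at hsd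
      · norm_num at hsd
    have hac : a * c = 1 := by
      have : 4080 * (a * c) = 4080 * 1 := by
        rw [hs, show a * 4080 * c = 4080 * (a * c) by ring] at h1
        omega
      exact Nat.eq_of_mul_eq_mul_left (by norm_num) this
    exact ⟨K, inferInstance, inferInstance, hK, hna, by rw [hKs, hs],
      hiso (Nat.eq_one_of_mul_eq_one_right hac) (Nat.eq_one_of_mul_eq_one_left hac)⟩

set_option maxRecDepth 100000 in
open Cfsg.Agent.OrdDiv in
theorem no_four_simple (OT : OrderTable.{0}) {K : Type} [Group K] [Finite K] (hK : IsKnownSimple' K)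
    (hna : ¬ ∀ a b : K, a * b = b * a) (hc : Nat.card K = 4080) (x : K) : orderOf x ≠ 4 := by
  obtain ⟨g, hg, hreal, hcard⟩ := exists_good OT hK hna (l := [(2, 8), (3, 2), (5, 2), (17, 1)]) (N := 979200)
    (by decide +kernel) (by rw [hc]; norm_num)
  have hj : (cands [(2, 8), (3, 2), (5, 2), (17, 1)] 979200).all (fun g => match g with
      | .psl n q => !(Nat.beq (ordN g) 4080) || (Nat.beq n 2 && Nat.beq q 16)
      | _ => !(Nat.beq (ordN g) 4080)) = true := by decide +kernel
  rw [List.all_eq_true] at hj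
  have hj' := hj g hg
  have h70 : Nat.beq (ordN g) 4080 = true := by
    rw [Nat.beq_eq, ← hcard, hc]
  cases g with
  | psl n q =>
    simp only [h70, Bool.not_true, Bool.false_or, Bool.and_eq_true, Nat.beq_eq] at hj'
    obtain ⟨rfl, rfl⟩ := hj'
    obtain ⟨F, _, _, hF, ⟨e⟩⟩ := hreal
    have hch : CharP F 2 := by
      obtain ⟨p, hp⟩ := CharP.exists F
      obtain ⟨n, hpp, h1⟩ := FiniteField.card F p
      have h2 : p ∣ 2 ^ 4 := by
        rw [show (2 : ℕ) ^ 4 = 16 by norm_num, ← hF, h1]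
        exact dvd_pow_self p n.ne_zero
      have h3 := (Nat.prime_dvd_prime_iff_eq hpp Nat.prime_two).1 (hpp.dvd_of_dvd_pow h2)
      rwa [h3] at hp
    intro h4
    exact psl_no_four (e x) (by rw [MulEquiv.orderOf_eq, h4])
  | _ => simp [h70] at hj'

end Cfsg.Agent.H916.Der.Four
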