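import Cfsg.Agent.H547.Der.FourRow
import Cfsg.Agent.H916.Der.FourWA
import Cfsg.Agent.H221.Der.CosSFour

/-!
# `Sp₄(4)`: the row of S3502 (helper916)
-/

set_option autoImplicit false

namespace Cfsg.Agent.H916.Der.Four

open Subgroup Cfsg.Agent.H439.Der Cfsg.Agent.H970.StabNum Cfsg.Agent.H503.El Cfsg.Agent Cfsg
open Cfsg.Agent.Lib.FieldFour Cfsg.Agent.H547.Der Cfsg.Agent.H547.Der.Four Cfsg.Agent.H938.Sax

theorem card_G : Nat.card G = 979200 := by rw [← card_sp44, Nat.card_congr eqv.toEquiv]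

theorem finT : Finite (PSp 2 F4) := Nat.finite_of_card_ne_zero (by rw [card_sp44]; norm_num)

theorem min_index (R : Subgroup (PSp 2 F4)) (hR : R ≠ ⊤) : 85 ≤ R.index := by
  have h := (S2141.result (F := F4) F4.card 2 (by norm_num) (by norm_num) (by norm_num)).1 R hR
  norm_num at h
  exact h

theorem coatom_of_index {R : Subgroup (PSp 2 F4)} (hR : R ≠ ⊤) (h : R.index < 170) : IsCoatom R := by
  have := finT
  refine ⟨hR, fun K hK => ?_⟩
  by_contra hKT
  have h1 := min_index K hKT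
  have h2 : R.relIndex K * K.index = R.index := Subgroup.relIndex_mul_index hK.le
  have h3 : R.relIndex K ≠ 1 := fun h3 => hK.not_ge (Subgroup.relIndex_eq_one.1 h3)
  have h4 : R.relIndex K ≠ 0 := fun h4 => by
    rw [h4, zero_mul] at h2
    exact Subgroup.index_ne_zero_of_finite h2.symm
  have h5 : 2 ≤ R.relIndex K := by omega
  have h6 := Nat.mul_le_mul h5 h1
  rw [h2] at h6
  omega

theorem card_comapG (R : Subgroup (PSp 2 F4)) : Nat.card (R.comap eqv.toMonoidHom) = Nat.card R := by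
  have h1 : (R.comap eqv.toMonoidHom).map eqv.toMonoidHom = R :=
    Subgroup.map_comap_eq_self_of_surjective eqv.surjective R
  conv_rhs => rw [← h1]
  exact Nat.card_congr (Subgroup.equivMapOfInjective _ eqv.toMonoidHom eqv.injective).toEquiv

theorem exists_ord {m : ℕ} (hm : m ∣ 6 ∨ m ∣ 10 ∨ m ∣ 15 ∨ m ∣ 17 ∨ m ∣ 4) : ∃ x : PSp 2 F4, orderOf x = m :=
  (H714.PSpFour.exists_order_iff F4.card m).2 hm

theorem three_of_dvd {R : Subgroup (PSp 2 F4)} {v a b c : ℕ} (hv : ¬ v ∣ Nat.card R) (ha : v ∣ a) (hb : v ∣ b)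
    (hc : v ∣ c) (hab : a ≠ b) (hac : a ≠ c) (hbc : b ≠ c) (ha' : a ∣ 6 ∨ a ∣ 10 ∨ a ∣ 15 ∨ a ∣ 17 ∨ a ∣ 4)
    (hb' : b ∣ 6 ∨ b ∣ 10 ∨ b ∣ 15 ∨ b ∣ 17 ∨ b ∣ 4) (hc' : c ∣ 6 ∨ c ∣ 10 ∨ c ∣ 15 ∨ c ∣ 17 ∨ c ∣ 4) :
    Three (PSp 2 F4) R := by
  have := finT
  obtain ⟨x, hx⟩ := exists_ord ha'
  obtain ⟨y, hy⟩ := exists_ord hb'
  obtain ⟨z, hz⟩ := exists_ord hc'
  have key : ∀ n : ℕ, v ∣ n → ∀ m ∈ R, orderOf m ≠ n := fun n hn m hm h => by
    apply hv
    rw [← h] at hn
    exact hn.trans (Subgroup.orderOf_dvd_natCard R hm)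
  exact Three.of_orders hab hac hbc hx hy hz (key a ha) (key b hb) (key c hc)

/-- missing `y1` or `y2` -/
theorem miss_five {R : Subgroup (PSp 2 F4)} (h25 : ¬ 25 ∣ Nat.card R) :
    (∀ φ : PSp 2 F4 ≃* PSp 2 F4, φ (eqv y1) ∉ R) ∨ (∀ φ : PSp 2 F4 ≃* PSp 2 F4, φ (eqv y2) ∉ R) := by
  have := finT
  exact missA_or (M := R) (p := 5) (by norm_num) (by simpa using h25) (x := eqv y1) (y := eqv y2)
    (by rw [MulEquiv.orderOf_eq, order_y1]) (by rw [MulEquiv.orderOf_eq, order_y2]) (by
      intro φ hφ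
      obtain ⟨n, hn⟩ := mem_zpowers_iff.1 hφ
      apply not_aut ((eqv.trans φ).trans eqv.symm)
      rw [mem_zpowers_iff]
      refine ⟨n, eqv.injective ?_⟩
      rw [map_zpow, hn]
      simp)

theorem miss_five' {R : Subgroup (PSp 2 F4)} (h25 : ¬ 25 ∣ Nat.card R) :
    ∃ y : PSp 2 F4, orderOf y = 5 ∧ ∀ φ : PSp 2 F4 ≃* PSp 2 F4, φ y ∉ R := by
  rcases miss_five h25 with h | h
  · exact ⟨_, by rw [MulEquiv.orderOf_eq, order_y1], h⟩
  · exact ⟨_, by rw [MulEquiv.orderOf_eq, order_y2], h⟩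

theorem ne_of_order {T : Type*} [Group T] {x y : T} (h : orderOf x ≠ orderOf y) (φ : T ≃* T) : φ x ≠ y := fun h1 => h (by
  rw [← h1, MulEquiv.orderOf_eq])

theorem noOne {R : Subgroup (PSp 2 F4)} (h256 : ¬ 256 ∣ Nat.card R) : NoOne (PSp 2 F4) R := by
  have := finT
  intro s hs hd h1
  rw [(S2600.result (F := F4) (f := 2) (by norm_num) (by rw [F4.card]; norm_num)).2] at hd
  have h2 : s ∣ 2 := by
    have : (2 * 2 : ℕ) = 2 ^ 2 := by norm_num
    rw [this] at hd
    exact hs.dvd_of_dvd_pow hd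
  have h3 : s = 2 := (Nat.prime_dvd_prime_iff_eq hs Nat.prime_two).1 h2
  subst h3
  apply h256
  have h4 : R.index * Nat.card R = 256 * 3825 := by rw [R.index_mul_card, card_sp44]
  have h5 : Nat.Coprime 256 R.index := by
    rw [show (256 : ℕ) = 2 ^ 8 by norm_num]
    refine Nat.Coprime.pow_left 8 ?_
    rw [Nat.coprime_two_left, Nat.odd_iff]
    exact h1
  exact h5.dvd_of_dvd_mul_left (Dvd.intro _ h4.symm)

variable (OT : OrdDiv.OrderTable.{0})
  (hS : ∀ (X : Type) [Group X] [Finite X] [IsSimpleGroup X], Cfsg.IsKnownSimple' X)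

include OT hS

theorem cent17 (P : Subgroup (PSp 2 F4)) (hP : Nat.card P = 17) :
    Nat.card (centralizer (P : Set (PSp 2 F4))) ∣ 17 ∧ Nat.card (normalizer (P : Set (PSp 2 F4))) ∣ 68 := by
  have h := (data OT hS).cent (17, 1, 4) (by decide) P hP
  exact ⟨by simpa using h.1, by simpa using h.2⟩

theorem threeT17 {R : Subgroup (PSp 2 F4)} (h17 : ¬ 17 ∣ Nat.card R) : ThreeT (PSp 2 F4) R := by
  have := finT
  refine threeT_of_le (v := 17) (n := 4) (by norm_num) (by rw [card_sp44]; norm_num) ?_ (by norm_num) h17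
  intro x hx
  have h1 := card_conjPow_mul x
  rw [H714.PSpFour.card_centralizer F4.card hx] at h1
  have h2 := (cent17 OT hS (zpowers x) (by rw [Nat.card_zpowers, hx])).2
  have h3 := Nat.le_of_dvd (by norm_num) h2
  omega

theorem no_four_4080 {R : Subgroup (PSp 2 F4)} (h : Nat.card R = 4080) : ∀ t ∈ R, orderOf t ≠ 4 := by
  have := finT
  obtain ⟨K, _, _, hK, hna, hc, ⟨e⟩⟩ := iso_of_4080 (H := R) h (fun P hP => by
    have hP' : Nat.card (P.map R.subtype) = 17 := by
      rw [Nat.card_congr (Subgroup.equivMapOfInjective _ R.subtype R.subtype_injective).toEquiv.symm, hP]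
    obtain ⟨h1, h2⟩ := cent17 OT hS (P.map R.subtype) hP'
    constructor
    · refine dvd_trans ?_ h1
      rw [Nat.card_congr (Subgroup.equivMapOfInjective (centralizer (P : Set R)) R.subtype R.subtype_injective).toEquiv]
      apply Subgroup.card_dvd_of_le
      rintro _ ⟨x, hx, rfl⟩
      rw [Subgroup.mem_centralizer_iff]
      rintro _ ⟨y, hy, rfl⟩
      exact congrArg Subtype.val (Subgroup.mem_centralizer_iff.1 hx y hy)
    · refine dvd_trans ?_ h2
      rw [Nat.card_congr (Subgroup.equivMapOfInjective (normalizer (P : Set R)) R.subtype R.subtype_injective).toEquiv]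
      apply Subgroup.card_dvd_of_le
      exact Subgroup.le_normalizer_map R.subtype) (by
    intro K _ _ hK hna hd
    exact (data OT hS).tbl K hK hna (by rw [card_sp44]; exact hd))
  intro t ht h4
  have hKk := @hS K _ _ hK
  refine no_four_simple OT hKk hna hc (e ⟨t, ht⟩) ?_
  rw [MulEquiv.orderOf_eq, Subgroup.orderOf_mk, h4]

set_option maxRecDepth 100000 in
/-- the subgroups of order divisible by 85 -/
theorem dvd85 {R : Subgroup (PSp 2 F4)} (hR : R ≠ ⊤) (h17 : 17 ∣ Nat.card R) :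
    ¬ 5 ∣ Nat.card R ∨ Nat.card R = 4080 ∨ Nat.card R = 8160 := by
  have h1 := H251.Small.mem_surv (data OT hS) (l := [(2, 8), (3, 2), (5, 2), (17, 1)]) (prs := [17])
    (by rw [card_sp44]; decide +kernel) R (by
      intro r hr
      rw [List.mem_singleton] at hr
      subst hr
      exact h17)
  have h2 : (H251.Small.surv [(17, 1, 4)] [2, 3, 5, 17] tblFour [(2, 8), (3, 2), (5, 2), (17, 1)] [17]).all
      (fun h => (h % 5 != 0) || (Nat.beq h 4080 || (Nat.beq h 8160 || Nat.beq h 979200))) = true := by decide +kernel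
  rw [List.all_eq_true] at h2
  have h3 := h2 _ h1
  rw [Bool.or_eq_true, Bool.or_eq_true, Bool.or_eq_true, Nat.beq_eq, Nat.beq_eq, Nat.beq_eq] at h3
  rcases h3 with h3 | h3 | h3 | h3
  · left
    intro h
    rw [Nat.mod_eq_zero_of_dvd h] at h3
    exact absurd h3 (by decide)
  · exact Or.inr (Or.inl h3)
  · exact Or.inr (Or.inr h3)
  · have := finT
    exact absurd (Subgroup.eq_top_of_card_eq R (by rw [h3, card_sp44])) hR

/-- **the non-maximal subgroups** -/
theorem fin_row (R : Subgroup (PSp 2 F4)) (hR : R ≠ ⊤) (hc : ¬ IsCoatom R) : Fin3 (PSp 2 F4) R := by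
  classical
  have hfin := finT
  have hcd : Nat.card R ∣ 979200 := by
    rw [← card_sp44]
    exact Subgroup.card_subgroup_dvd_card R
  have hidx : 170 ≤ R.index := by
    by_contra h
    exact hc (coatom_of_index hR (by omega))
  have hmul := R.index_mul_card
  rw [card_sp44] at hmul
  have hcard : Nat.card R ≤ 5760 := by
    by_contra h
    have h1 : 170 * 5761 ≤ R.index * Nat.card R := Nat.mul_le_mul hidx (by omega)
    omega
  by_cases h5 : 5 ∣ Nat.card R
  swap
  · left
    exact three_of_dvd h5 (a := 5) (b := 10) (c := 15) (by norm_num) (by norm_num) (by norm_num) (by norm_num)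
      (by norm_num) (by norm_num) (by norm_num) (by norm_num) (by norm_num)
  by_cases h3 : 3 ∣ Nat.card R
  swap
  · left
    exact three_of_dvd h3 (a := 3) (b := 6) (c := 15) (by norm_num) (by norm_num) (by norm_num) (by norm_num)
      (by norm_num) (by norm_num) (by norm_num) (by norm_num) (by norm_num)
  obtain ⟨x4, hx4⟩ := exists_ord (m := 4) (by norm_num)
  by_cases h17 : 17 ∣ Nat.card R
  · rcases dvd85 OT hS hR h17 with h | h | h
    · exact absurd h5 h
    · -- order 4080
      right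
      have h25 : ¬ 5 ^ 2 ∣ Nat.card R := by rw [h]; norm_num
      have h9 : ¬ 3 ^ 2 ∣ Nat.card R := by rw [h]; norm_num
      have m4 : ∀ φ : PSp 2 F4 ≃* PSp 2 F4, φ x4 ∉ R := fun φ hφ =>
        no_four_4080 OT hS h _ hφ (by rw [MulEquiv.orderOf_eq, hx4])
      obtain ⟨y, hy, my⟩ := miss_five' (R := R) (by simpa using h25)
      have key3 : ∃ z : PSp 2 F4, orderOf z = 3 ∧ ∀ g : PSp 2 F4, g * z * g⁻¹ ∉ R := by
        rcases miss_or (M := R) (p := 3) (by norm_num) h9 (x := eqv x1) (y := eqv x2)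
          (by rw [MulEquiv.orderOf_eq, order_x1]) (by rw [MulEquiv.orderOf_eq, order_x2]) (by
            intro g hg
            obtain ⟨g, rfl⟩ := eqv.surjective g
            obtain ⟨n, hn⟩ := mem_zpowers_iff.1 hg
            apply not_conj_of_fix e4_fix.2.1 X2_fpf order_x1 order_x2 (by norm_num) g
            rw [mem_zpowers_iff]
            refine ⟨n, eqv.injective ?_⟩
            rw [map_zpow, hn, map_mul, map_mul, map_inv]) with h | h
        · exact ⟨_, by rw [MulEquiv.orderOf_eq, order_x1], h⟩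
        · exact ⟨_, by rw [MulEquiv.orderOf_eq, order_x2], h⟩
      obtain ⟨z, hz, mz⟩ := key3
      refine ⟨⟨x4, y, z, fun g => m4 (MulAut.conj g), fun g => my (MulAut.conj g), mz,
        fun g => ne_of_order (by rw [hx4, hy]; norm_num) (MulAut.conj g),
        fun g => ne_of_order (by rw [hx4, hz]; norm_num) (MulAut.conj g),
        fun g => ne_of_order (by rw [hy, hz]; norm_num) (MulAut.conj g)⟩,
        ⟨x4, y, m4, my, ne_of_order (by rw [hx4, hy]; norm_num)⟩, Or.inl (noOne (by rw [h]; norm_num))⟩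
    · rw [h] at hcard
      norm_num at hcard
  · -- 17 does not divide
    have hfp : Fact (Nat.Prime 17) := ⟨by norm_num⟩
    obtain ⟨x, hx⟩ := exists_ord (m := 17) (by norm_num)
    have m17 : ∀ φ : PSp 2 F4 ≃* PSp 2 F4, φ x ∉ R := not_mem_of_dvd h17 (by rw [hx])
    have hd : Nat.card R ∣ 57600 := by
      have h1 : Nat.Coprime (Nat.card R) 17 := ((Nat.coprime_comm.1 ((Nat.Prime.coprime_iff_not_dvd (by norm_num)).2 h17)))
      exact h1.dvd_of_dvd_mul_right (show Nat.card R ∣ 57600 * 17 by simpa using hcd)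
    by_cases h25 : 25 ∣ Nat.card R
    · right
      have h256 : ¬ 256 ∣ Nat.card R := fun h => by
        have h1 : 256 * 25 ∣ Nat.card R := Nat.Coprime.mul_dvd_of_dvd_of_dvd (by norm_num) h h25
        have h2 := Nat.le_of_dvd Nat.card_pos h1
        omega
      have hH : ∀ t ∈ R.comap eqv.toMonoidHom, orderOf t ≠ 4 := by
        refine main_syl card_G (comap_ne_top eqv hR) (not_isCoatom_comap eqv hc) (by rw [card_comapG]; exact h25)
          (syl_ne card_G ?_ ?_ ?_ ?_)
        · rw [card_comapG]; exact h25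
        · rw [card_comapG]; exact h3
        · rw [card_comapG]; exact hd
        · rw [card_comapG]; omega
      have m4 : ∀ φ : PSp 2 F4 ≃* PSp 2 F4, φ x4 ∉ R := fun φ hφ => by
        refine hH (eqv.symm (φ x4)) ?_ (by rw [MulEquiv.orderOf_eq, MulEquiv.orderOf_eq, hx4])
        show eqv (eqv.symm (φ x4)) ∈ R
        rwa [MulEquiv.apply_symm_apply]
      exact ⟨threeT17 OT hS h17, ⟨x, x4, m17, m4, ne_of_order (by rw [hx, hx4]; norm_num)⟩,
        Or.inl (noOne h256)⟩
    · obtain ⟨y, hy, my⟩ := miss_five' h25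
      by_cases h256 : 256 ∣ Nat.card R
      · left
        have m15 : ∀ φ : PSp 2 F4 ≃* PSp 2 F4, φ (eqv z15) ∉ R := by
          intro φ hφ
          have hmem : z15 ∈ (R.comap φ.toMonoidHom).comap eqv.toMonoidHom := hφ
          have hc1 : Nat.card (R.comap φ.toMonoidHom) = Nat.card R := by
            have h1 : (R.comap φ.toMonoidHom).map φ.toMonoidHom = R :=
              Subgroup.map_comap_eq_self_of_surjective φ.surjective R
            conv_rhs => rw [← h1]
            exact Nat.card_congr (Subgroup.equivMapOfInjective _ φ.toMonoidHom φ.injective).toEquiv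
          have h9 := nine_of_two card_G (by rw [card_comapG, hc1]; exact h256) hmem
          rw [card_comapG, hc1] at h9
          have h1 : 256 * 9 ∣ Nat.card R := Nat.Coprime.mul_dvd_of_dvd_of_dvd (by norm_num) h256 h9
          have h2 : 256 * 9 * 5 ∣ Nat.card R := Nat.Coprime.mul_dvd_of_dvd_of_dvd (by norm_num) h1 h5
          have h3 := Nat.le_of_dvd Nat.card_pos h2
          omega
        exact ⟨x, eqv z15, y, m17, m15, my, ne_of_order (by rw [hx, MulEquiv.orderOf_eq, order_z15]; norm_num),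
          ne_of_order (by rw [hx, hy]; norm_num), ne_of_order (by rw [hy, MulEquiv.orderOf_eq, order_z15]; norm_num)⟩
      · right
        exact ⟨threeT17 OT hS h17, ⟨x, y, m17, my, ne_of_order (by rw [hx, hy]; norm_num)⟩,
          Or.inl (noOne h256)⟩

/-- **the maximal subgroups** -/
theorem miss_row (R : Subgroup (PSp 2 F4)) (hR : R ≠ ⊤) : Cfsg.Agent.H938.Sax.Miss (PSp 2 F4) R := by
  classical
  have hfin := finT
  by_cases h5 : 5 ∣ Nat.card R
  swap
  · exact (three_of_dvd h5 (a := 5) (b := 10) (c := 15) (by norm_num) (by norm_num) (by norm_num) (by norm_num)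
      (by norm_num) (by norm_num) (by norm_num) (by norm_num) (by norm_num)).two.miss
  by_cases h17 : 17 ∣ Nat.card R
  · have h25 : ¬ 25 ∣ Nat.card R := by
      rcases dvd85 OT hS hR h17 with h | h | h
      · exact absurd h5 h
      · rw [h]; norm_num
      · rw [h]; norm_num
    obtain ⟨y, -, my⟩ := miss_five' h25
    exact ⟨y, my⟩
  · obtain ⟨x, hx⟩ := exists_ord (m := 17) (by norm_num)
    exact ⟨x, not_mem_of_dvd h17 (by rw [hx])⟩

/-- **row `Sp₄(4)` for S3502** -/
theorem rowW_s44 (F : Type) [Field F] [Fintype F] (hF : Fintype.card F = 4) : RowW (PSp 2 F) := by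
  refine RowW.congr (LieClassical.FieldTransfer.pspCongr 2 (equivOfCard hF).symm) ?_
  exact ⟨Or.inr ⟨Cfsg.Agent.H221.Der.CosSFour.cos_s44 F4.card, fun M hM => miss_row OT hS M hM.1⟩,
    fun R hR hc => fin_row OT hS R hR hc⟩

end Cfsg.Agent.H916.Der.Four
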