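import Cfsg.Agent.H916.Der.SixTab
import Cfsg.Agent.H547.Der.SixRow
import Cfsg.Agent.H439.Der.Three

/-!
# `Sp₆(2)`: three classes of derangements (helper916, for S3502)
-/

set_option autoImplicit false

namespace Cfsg.Agent.H916.Der.Six

open Subgroup MulAction Cfsg.Agent.H439.Der Cfsg.Agent.H547.Der Cfsg.Agent.H547.Der.Six Cfsg.Agent.H916.Der
open Cfsg.Agent.H970.StabNum Cfsg.Agent.H503.El Cfsg.Agent Cfsg

/-- the sum of an odd number of forms -/
theorem exists_inv {M : Subgroup G6} (O : Set Fm) (hO : ∀ g ∈ M, ∀ f ∈ O, g • f ∈ O) (hodd : Odd (Nat.card O)) :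
    ∃ f : Fm, ∀ g ∈ M, g • f = f := by
  classical
  have := Fintype.ofFinite Fm
  set s : Finset Fm := O.toFinset with hs
  have hcard : s.card = Nat.card O := by
    rw [hs, Set.toFinset_card, Nat.card_eq_fintype_card]
  let f : Fm := ⟨fun v => ∑ p ∈ s, p.1 v, fun u v => by
    show ∑ p ∈ s, p.1 (u + v) = ∑ p ∈ s, p.1 u + ∑ p ∈ s, p.1 v + bil u v
    have h1 : ∀ p ∈ s, p.1 (u + v) = p.1 u + p.1 v + bil u v := fun p _ => p.2 u v
    rw [Finset.sum_congr rfl h1, Finset.sum_add_distrib, Finset.sum_add_distrib, Finset.sum_const, hcard,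
      nsmul_eq_mul]
    have h2 : ((Nat.card O : ℕ) : ZMod 2) = 1 := by
      obtain ⟨k, hk⟩ := hodd
      rw [hk]
      push_cast
      rw [show (2 : ZMod 2) = 0 from rfl, zero_mul, zero_add]
    rw [h2, one_mul]⟩
  refine ⟨f, fun g hg => ?_⟩
  apply Subtype.ext
  funext v
  rw [smul_val]
  show ∑ p ∈ s, p.1 (((g⁻¹ : G6) : M6).mulVec v) = ∑ p ∈ s, p.1 v
  refine Finset.sum_bij (fun p _ => g • p) (fun p hp => ?_) (fun a _ b _ h => MulAction.injective g h) (fun p hp => ?_)
    (fun p _ => rfl)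
  · rw [hs, Set.mem_toFinset] at hp ⊢
    exact hO g hg p hp
  · rw [hs, Set.mem_toFinset] at hp
    exact ⟨g⁻¹ • p, by rw [hs, Set.mem_toFinset]; exact hO _ (inv_mem hg) p hp, smul_inv_smul g p⟩

theorem card_G6 : Nat.card G6 = 1451520 := by
  rw [← card_psp62]
  exact Nat.card_congr (pspEquiv (m := 3) (by norm_num)).toEquiv

theorem smul_pow_eq {G X : Type*} [Group G] [MulAction G X] {g : G} {y : X} (h : g • y = y) (n : ℕ) : g ^ n • y = y := by
  induction n with
  | zero => rw [pow_zero, one_smul]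
  | succ n ih => rw [pow_succ, mul_smul, h, ih]

/-- elements of order seven -/
theorem seven {x : G6} (hx : orderOf x = 7) :
    PN Mi x ∧ ∃ q, Pl q ∧ x • q = q ∧ ∀ y, Pl y → x • y = y → y = q := by
  have hsyl : ∃ k : G6, k * (x : G6) * k⁻¹ ∈ zpowers x7 := by
    obtain ⟨m, _, hm⟩ := exists_conj_mem (p := 7) (k := 1) (M := (⊤ : Subgroup G6)) (by norm_num) (W := zpowers x7)
      (by rw [Nat.card_zpowers, order_x7]; norm_num) le_top (by
        rw [Subgroup.card_top, card_G6]; norm_num) (t := (x : G6)) (mem_top _) hx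
    exact ⟨m, hm⟩
  obtain ⟨k, hk⟩ := hsyl
  have hz1 : zpowers (k * (x : G6) * k⁻¹) = zpowers x7 := by
    refine Subgroup.eq_of_le_of_card_ge (zpowers_le.2 hk) ?_
    rw [Nat.card_zpowers, Nat.card_zpowers, orderOf_conj, hx, order_x7]
  have hx7m : x7 ∈ zpowers (k * (x : G6) * k⁻¹) := by rw [hz1]; exact mem_zpowers _
  have hfo : IsOfFinOrder (k * (x : G6) * k⁻¹) := by
    rw [← orderOf_pos_iff, orderOf_conj, hx]; norm_num
  have hfo7 : IsOfFinOrder x7 := by
    rw [← orderOf_pos_iff, order_x7]; norm_num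
  obtain ⟨n, hn⟩ := hfo.mem_powers_iff_mem_zpowers.2 hx7m
  have hn' : (k * (x : G6) * k⁻¹) ^ n = x7 := hn
  obtain ⟨m, hm⟩ := hfo7.mem_powers_iff_mem_zpowers.2 hk
  have hm' : x7 ^ m = k * (x : G6) * k⁻¹ := hm
  obtain ⟨h1, q, h2, h3, h4⟩ := p7
  -- fixed points of `x`
  have key : ∀ y : Fm, x • y = y → x7 • k • y = k • y := by
    intro y hy
    rw [← hn']
    apply smul_pow_eq
    rw [conj_smul, hy]
  refine ⟨fun y hy h => h1 (k • y) (mi_smul k y hy) (key y h), k⁻¹ • q, pl_smul _ _ h2, ?_, fun y hy h => ?_⟩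
  · have h5 : (k * (x : G6) * k⁻¹) • q = q := by
      rw [← hm']
      exact smul_pow_eq h3 m
    rw [conj_smul'] at h5
    conv_rhs => rw [← h5]
    rw [inv_smul_smul]
  · rw [← h4 (k • y) (pl_smul k y hy) (key y h), inv_smul_smul]

set_option maxRecDepth 100000 in
/-- the orders divisible by 35 -/
theorem ord35 (OT : OrdDiv.OrderTable.{0})
    (hS : ∀ (X : Type) [Group X] [Finite X] [IsSimpleGroup X], Cfsg.IsKnownSimple' X)
    (M : Subgroup (PSp 3 (ZMod 2))) (h5 : 5 ∣ Nat.card M) (h7 : 7 ∣ Nat.card M) :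
    Nat.card M ∈ [2520, 5040, 20160, 181440, 40320, 161280, 1451520] := by
  classical
  have hF : Fintype.card (ZMod 2) = 2 := ZMod.card 2
  have hsimp : IsSimpleGroup (PSp 3 (ZMod 2)) := S0270.result 3 (by norm_num) (by omega)
  have D : Data (PSp 3 (ZMod 2)) [(7, 1, 6)] [2, 3, 5, 7] tblSix := by
    refine mk_data OT hS (l := [(2, 9), (3, 4), (5, 1), (7, 1)]) card_psp62 (by decide +kernel) ?_
    intro x hx
    rw [List.mem_singleton] at hx
    subst hx
    exact entry_of_ex (by norm_num) card_psp62 (by norm_num) (by norm_num) (by decide +kernel)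
      (H732.SelfCent.psp_six_two hF)
  have h1 := H251.Small.mem_surv D (l := [(2, 9), (3, 4), (5, 1), (7, 1)]) (prs := [5, 7])
    (by rw [card_psp62]; decide +kernel) M (by
      intro r hr
      simp only [List.mem_cons, List.not_mem_nil, or_false] at hr
      rcases hr with rfl | rfl
      · exact h5
      · exact h7)
  have h2 : H251.Small.surv [(7, 1, 6)] [2, 3, 5, 7] tblSix [(2, 9), (3, 4), (5, 1), (7, 1)] [5, 7] =
      [2520, 5040, 20160, 181440, 40320, 161280, 1451520] := by decide +kernel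
  rwa [h2] at h1

theorem ord35' (OT : OrdDiv.OrderTable.{0})
    (hS : ∀ (X : Type) [Group X] [Finite X] [IsSimpleGroup X], Cfsg.IsKnownSimple' X)
    (M : Subgroup G6) (h5 : 5 ∣ Nat.card M) (h7 : 7 ∣ Nat.card M) :
    Nat.card M ∈ [2520, 5040, 20160, 181440, 40320, 161280, 1451520] := by
  have e := pspEquiv (m := 3) (by norm_num)
  have hc : Nat.card (M.map e.toMonoidHom) = Nat.card M := (Nat.card_congr (e.subgroupMap M).toEquiv).symm
  have h := ord35 OT hS (M.map e.toMonoidHom) (by rwa [hc]) (by rwa [hc])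
  rwa [hc] at h

theorem threeT_of_ne {T : Type*} [Group T] {M : Subgroup T} {x y z : T} (hx : H547.Der.Miss M x) (hy : H547.Der.Miss M y)
    (hz : H547.Der.Miss M z) (hxy : orderOf x ≠ orderOf y) (hxz : orderOf x ≠ orderOf z) (hyz : orderOf y ≠ orderOf z) :
    ThreeT T M :=
  ⟨x, y, z, hx, hy, hz, fun g hg => hxy (by rw [← hg, orderOf_conj]), fun g hg => hxz (by rw [← hg, orderOf_conj]),
    fun g hg => hyz (by rw [← hg, orderOf_conj])⟩

/-- the conclusion for a conjugate -/
theorem threeT_conj {T : Type*} [Group T] {M : Subgroup T} (g : T)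
    (h : ThreeT T (M.comap (MulAut.conj g).toMonoidHom)) : ThreeT T M := ThreeT.congr (MulAut.conj g) h

/-- `35 ∣ |M|` : no element of order 3 without fixed plus forms -/
theorem miss35 (OT : OrdDiv.OrderTable.{0})
    (hS : ∀ (X : Type) [Group X] [Finite X] [IsSimpleGroup X], Cfsg.IsKnownSimple' X)
    (M : Subgroup G6) (hM : M ≠ ⊤) (h5 : 5 ∣ Nat.card M) (h7 : 7 ∣ Nat.card M) : H547.Der.Miss M (w9 ^ 3) := by
  intro g hg
  have h27 := order35 OT hS M hM h5 h7
  have hmem := ord35' OT hS M h5 h7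
  have hfp : Fact (Nat.Prime 7) := ⟨by norm_num⟩
  obtain ⟨x, hx⟩ := exists_prime_orderOf_dvd_card' 7 h7
  have hxo : orderOf (x : G6) = 7 := by rw [Subgroup.orderOf_coe, hx]
  obtain ⟨hx1, q, hq, hxq, hx2⟩ := seven hxo
  have hc3 : PN Pl (g * w9 ^ 3 * g⁻¹) := pn3.conj pl_smul g
  have hc := lemC (M := M) pl_smul card_pl hq hxq hx2 hc3 x.2 hg hxo (by rw [orderOf_conj, order_c3])
  rcases hc with hc | hc
  · obtain ⟨f, hf⟩ := exists_inv (M := M) (orbit M q) (fun g hg f hf => orbit_inv' hg f hf) (by rw [hc]; decide)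
    rcases mi_or_pl f with h1 | h1
    · exact hx1 f h1 (hf x x.2)
    · exact hc3 f h1 (hf _ hg)
  · have hmul := card_orbit_mul (M := M) q
    rw [hc] at hmul
    -- the stabilizer as a subgroup of `G6`
    set K : Subgroup G6 := (stabilizer M q).map M.subtype with hK
    have hKc : Nat.card K = Nat.card (stabilizer M q) :=
      (Nat.card_congr ((stabilizer M q).equivMapOfInjective M.subtype M.subtype_injective).toEquiv).symm
    rw [← hKc] at hmul
    have h5' : 5 ∣ Nat.card K := by
      rw [← hmul] at h5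
      exact (Nat.Coprime.dvd_of_dvd_mul_left (by norm_num) h5)
    have h7' : 7 ∣ Nat.card K := by
      rw [← hmul] at h7
      exact (Nat.Coprime.dvd_of_dvd_mul_left (by norm_num) h7)
    have hmemK := ord35' OT hS K h5' h7'
    rw [← hmul] at hmem h27
    simp only [List.mem_cons, List.not_mem_nil, or_false] at hmem hmemK
    rcases hmemK with h | h | h | h | h | h | h <;> rw [h] at hmem h27 <;>
      first | (norm_num at hmem; done) | norm_num at h27

/-- **`Sp₆(2)`: every proper subgroup misses three classes** -/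
theorem threeT_six (OT : OrdDiv.OrderTable.{0})
    (hS : ∀ (X : Type) [Group X] [Finite X] [IsSimpleGroup X], Cfsg.IsKnownSimple' X)
    (M : Subgroup G6) (hM : M ≠ ⊤) : ThreeT G6 M := by
  have hw9pow : w9 ^ 9 = 1 := by rw [← order_w9, pow_orderOf_eq_one]
  by_cases h5 : 5 ∣ Nat.card M
  swap
  · refine threeT_of_ne (x := z15) (y := z15 ^ 3) (z := t10) (Miss.of_not_dvd h5 ?_) (Miss.of_not_dvd h5 ?_)
      (Miss.of_not_dvd h5 ?_) ?_ ?_ ?_
    · rw [order_z15]; norm_num
    · rw [order_y5]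
    · rw [order_t10]; norm_num
    · rw [order_z15, order_y5]; norm_num
    · rw [order_z15, order_t10]; norm_num
    · rw [order_y5, order_t10]; norm_num
  by_cases h7 : 7 ∣ Nat.card M
  · have hc := miss35 OT hS M hM h5 h7
    refine threeT_of_ne (x := w9 ^ 3) (y := w9) (z := w6) hc hc.of_pow ?_ ?_ ?_ ?_
    · apply Miss.of_pow (n := 4)
      rwa [w6_pow4]
    · rw [order_c3, order_w9]; norm_num
    · rw [order_c3, order_w6]; norm_num
    · rw [order_w9, order_w6]; norm_num
  have hcd : Nat.card M ∣ 1451520 := by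
    rw [← card_G6]
    exact Subgroup.card_subgroup_dvd_card M
  by_cases hz : H547.Der.Miss M z15
  · by_cases hw : H547.Der.Miss M w9
    · refine threeT_of_ne (x := z15) (y := w9) (z := x7) hz hw (Miss.of_not_dvd h7 (by rw [order_x7])) ?_ ?_ ?_
      · rw [order_z15, order_w9]; norm_num
      · rw [order_z15, order_x7]; norm_num
      · rw [order_w9, order_x7]; norm_num
    · obtain ⟨g, hwM⟩ := exists_mem_comap hw
      refine threeT_conj g ?_
      have h7' : ¬ 7 ∣ Nat.card (M.comap (MulAut.conj g).toMonoidHom) := by rwa [card_comap_conj]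
      have hz' : H547.Der.Miss (M.comap (MulAut.conj g).toMonoidHom) z15 := hz.conj g
      generalize M.comap (MulAut.conj g).toMonoidHom = K at hwM h7' hz'
      refine threeT_of_ne (x := z15) (y := t8) (z := x7) hz' ?_ (Miss.of_not_dvd h7' (by rw [order_x7])) ?_ ?_ ?_
      · intro k hk
        apply h7'
        have h28 := lemB (M := K) mi_smul card_mi p9 (t := k * t8 * k⁻¹) (by
          rw [conj_pow]
          exact pn8.conj mi_smul k) hwM hk hw9pow (by
          rw [conj_pow, t8_pow8, mul_one, mul_inv_cancel])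
        exact (by norm_num : 7 ∣ 28).trans h28
      · rw [order_z15, order_t8]; norm_num
      · rw [order_z15, order_x7]; norm_num
      · rw [order_t8, order_x7]; norm_num
  · obtain ⟨g, hzM⟩ := exists_mem_comap hz
    refine threeT_conj g ?_
    have h7' : ¬ 7 ∣ Nat.card (M.comap (MulAut.conj g).toMonoidHom) := by rwa [card_comap_conj]
    have hcd' : Nat.card (M.comap (MulAut.conj g).toMonoidHom) ∣ 1451520 := by rwa [card_comap_conj]
    generalize M.comap (MulAut.conj g).toMonoidHom = K at hzM h7' hcd'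
    refine threeT_of_ne (x := x7) (y := w9) (z := t12) (Miss.of_not_dvd h7' (by rw [order_x7])) ?_ ?_ ?_ ?_ ?_
    · intro g hg
      refine no_eighteen hzM (card_of_nine inst hzM hg ?_ ?_ h7')
      · rw [← order_w9, ← orderOf_conj g w9, pow_orderOf_eq_one]
      · rw [conj_pow]
        exact Fpf.conj inst.zero fpf_c3 g
    · intro k hk
      rcases lemA (M := K) mi_smul card_mi (p12.conj mi_smul k) p15 hk hzM (by rw [orderOf_conj, order_t12]) order_z15
        with h | h | h
      · exact absurd (h.trans hcd') (by norm_num)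
      · exact absurd (h.trans hcd') (by norm_num)
      · exact h7' ((by norm_num : 7 ∣ 28).trans h)
    · rw [order_x7, order_w9]; norm_num
    · rw [order_x7, order_t12]; norm_num
    · rw [order_w9, order_t12]; norm_num

/-- if all automorphisms are inner -/
theorem three_of_threeT {T : Type*} [Group T] {M : Subgroup T} (hinn : ∀ φ : T ≃* T, ∃ g : T, φ = MulAut.conj g)
    (h : ThreeT T M) : Three T M := by
  obtain ⟨x, y, z, hx, hy, hz, h1, h2, h3⟩ := h
  refine ⟨x, y, z, fun φ => ?_, fun φ => ?_, fun φ => ?_, fun φ => ?_, fun φ => ?_, fun φ => ?_⟩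
  · obtain ⟨g, rfl⟩ := hinn φ; exact hx g
  · obtain ⟨g, rfl⟩ := hinn φ; exact hy g
  · obtain ⟨g, rfl⟩ := hinn φ; exact hz g
  · obtain ⟨g, rfl⟩ := hinn φ; exact h1 g
  · obtain ⟨g, rfl⟩ := hinn φ; exact h2 g
  · obtain ⟨g, rfl⟩ := hinn φ; exact h3 g

/-- **row `Sp₆(2)` for S3502** -/
theorem rowS_s62 (OT : OrdDiv.OrderTable.{0})
    (hS : ∀ (X : Type) [Group X] [Finite X] [IsSimpleGroup X], Cfsg.IsKnownSimple' X)
    (F : Type*) [Field F] [Fintype F] (hF : Fintype.card F = 2) : RowS (PSp 3 F) := by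
  have e := pspEquiv (m := 3) (by norm_num)
  refine RowS.congr (e.trans (LieClassical.FieldTransfer.pspCongr 3 (ZMod.ringEquivOfPrime F Nat.prime_two hF))) ?_
  refine RowS.of_three fun M hM => ?_
  refine three_of_threeT ?_ (threeT_six OT hS M hM.1)
  intro φ
  obtain ⟨x, hx⟩ := OddHalf.Table.OutSpSix.inner (m := 3) (F := ZMod 2) (by norm_num)
    (by rw [Nat.card_eq_fintype_card]; exact ZMod.card 2) ((e.symm.trans φ).trans e)
  refine ⟨e.symm x, ?_⟩
  ext1 y
  have h := DFunLike.congr_fun hx (e y)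
  have h2 : e (φ y) = x * e y * x⁻¹ := by
    have h3 : ((e.symm.trans φ).trans e) (e y) = e (φ y) := by
      rw [MulEquiv.trans_apply, MulEquiv.trans_apply, e.symm_apply_apply]
    rw [← h3, h]
    rfl
  apply e.injective
  rw [h2, MulAut.conj_apply, map_mul, map_mul, map_inv, e.apply_symm_apply]

end Cfsg.Agent.H916.Der.Six
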