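import Cfsg.Agent.H916.Der.FourTr

/-!
# `Sp₄(4)`: the stabilizer of `A ⊥ B` (helper916, for S3502)
-/

set_option autoImplicit false

namespace Cfsg.Agent.H916.Der.Four

open Subgroup Cfsg Cfsg.Agent.Lib.FieldFour Cfsg.Agent.H547.Der.Four Cfsg.Agent.ClassicalGeometry.SympBasic
  Cfsg.Agent.ClassicalGeometry.Sp4Graph

variable {H : Subgroup G}

/-- 2 × 2 matrices -/
abbrev M2 := Matrix (Fin 2) (Fin 2) F4

/-- block diagonal matrix with respect to `A ⊥ B` -/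
def dg (X Y : M2) : M4 := Matrix.fromBlocks !![X 0 0, 0; 0, Y 0 0] !![X 0 1, 0; 0, Y 0 1]
  !![X 1 0, 0; 0, Y 1 0] !![X 1 1, 0; 0, Y 1 1]

theorem dg_mul (X Y X' Y' : M2) : dg X Y * dg X' Y' = dg (X * X') (Y * Y') := by
  have := charF4
  ext i j
  rw [mul_eq]
  rcases i with i | i <;> rcases j with j | j <;> fin_cases i <;> fin_cases j <;>
    simp [dg, Matrix.mul_apply, Fin.sum_univ_two]

theorem dg_one : dg 1 1 = 1 := by
  ext i j
  rcases i with i | i <;> rcases j with j | j <;> fin_cases i <;> fin_cases j <;>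
    simp [dg, Matrix.one_apply]

theorem dg_pow (X Y : M2) (n : ℕ) : dg X Y ^ n = dg (X ^ n) (Y ^ n) := by
  induction n with
  | zero => rw [pow_zero, pow_zero, pow_zero, dg_one]
  | succ n ih => rw [pow_succ, ih, dg_mul, pow_succ, pow_succ]

theorem dg_inj {X Y X' Y' : M2} (h : dg X Y = dg X' Y') : X = X' ∧ Y = Y' := by
  have h1 : ∀ i j, dg X Y i j = dg X' Y' i j := fun i j => by rw [h]
  constructor
  · ext i j
    fin_cases i <;> fin_cases j
    · exact h1 (.inl 0) (.inl 0)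
    · exact h1 (.inl 0) (.inr 0)
    · exact h1 (.inr 0) (.inl 0)
    · exact h1 (.inr 0) (.inr 0)
  · ext i j
    fin_cases i <;> fin_cases j
    · exact h1 (.inl 1) (.inl 1)
    · exact h1 (.inl 1) (.inr 1)
    · exact h1 (.inr 1) (.inl 1)
    · exact h1 (.inr 1) (.inr 1)

/-- determinant one -/
def D1 (X : M2) : Prop := X 0 0 * X 1 1 + X 0 1 * X 1 0 = 1

instance (X : M2) : Decidable (D1 X) := by unfold D1; infer_instance

theorem dg_mem {X Y : M2} (hX : D1 X) (hY : D1 Y) : dg X Y ∈ Matrix.symplecticGroup (Fin 2) F4 := by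
  have := charF4
  unfold D1 at hX hY
  have hadd : ∀ z : F4, z + z = 0 := CharTwo.add_self_eq_zero
  have hX' : X 0 1 * X 1 0 + X 0 0 * X 1 1 = 1 := by rw [← hX]; ring
  have hY' : Y 0 1 * Y 1 0 + Y 0 0 * Y 1 1 = 1 := by rw [← hY]; ring
  apply mem_of_row_rel
  intro i j
  rcases i with i | i <;> rcases j with j | j <;> fin_cases i <;> fin_cases j <;>
    simp [dg, hX, hY, hX', hY', mul_comm, hadd]

/-- `t B ⊆ B` -/
def SB (t : G) : Prop := (t : M4) (.inl 0) (.inl 1) = 0 ∧ (t : M4) (.inr 0) (.inl 1) = 0 ∧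
  (t : M4) (.inl 0) (.inr 1) = 0 ∧ (t : M4) (.inr 0) (.inr 1) = 0

/-- `t B ⊆ A` -/
def SA (t : G) : Prop := (t : M4) (.inl 1) (.inl 1) = 0 ∧ (t : M4) (.inr 1) (.inl 1) = 0 ∧
  (t : M4) (.inl 1) (.inr 1) = 0 ∧ (t : M4) (.inr 1) (.inr 1) = 0

theorem solve (x y a b c d : F4) (hd : a * d + b * c = 1) (h1 : x * b + y * a = 0) (h2 : x * d + y * c = 0) :
    x = 0 ∧ y = 0 := by
  revert x y a b c d
  decide +kernel

theorem SB.dg {t : G} (h : SB t) : ∃ X Y : M2, D1 X ∧ D1 Y ∧ (t : M4) = dg X Y := by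
  have := charF4
  obtain ⟨h1, h2, h3, h4⟩ := h
  have c1 := col_rel t.2 (.inl 1) (.inr 1)
  have c2 := col_rel t.2 (.inl 0) (.inl 1)
  have c3 := col_rel t.2 (.inl 0) (.inr 1)
  have c4 := col_rel t.2 (.inr 0) (.inl 1)
  have c5 := col_rel t.2 (.inr 0) (.inr 1)
  have c6 := col_rel t.2 (.inl 0) (.inr 0)
  rw [if_pos (by decide)] at c1 c6
  rw [if_neg (by decide)] at c2 c3 c4 c5
  rw [h1, h2, h3, h4] at c1
  rw [h1, h2] at c2 c4
  rw [h3, h4] at c3 c5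
  simp only [mul_zero, zero_mul, zero_add] at c1 c2 c3 c4 c5
  obtain ⟨k1, k2⟩ := solve ((t : M4) (.inl 1) (.inl 0)) ((t : M4) (.inr 1) (.inl 0)) ((t : M4) (.inl 1) (.inl 1))
    ((t : M4) (.inr 1) (.inl 1)) ((t : M4) (.inl 1) (.inr 1)) ((t : M4) (.inr 1) (.inr 1)) c1 (by rw [← c2]) (by rw [← c3])
  obtain ⟨k3, k4⟩ := solve ((t : M4) (.inl 1) (.inr 0)) ((t : M4) (.inr 1) (.inr 0)) ((t : M4) (.inl 1) (.inl 1))
    ((t : M4) (.inr 1) (.inl 1)) ((t : M4) (.inl 1) (.inr 1)) ((t : M4) (.inr 1) (.inr 1)) c1 (by rw [← c4]) (by rw [← c5])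
  rw [k1, k2, k3, k4] at c6
  simp only [mul_zero, add_zero] at c6
  refine ⟨!![(t : M4) (.inl 0) (.inl 0), (t : M4) (.inl 0) (.inr 0); (t : M4) (.inr 0) (.inl 0), (t : M4) (.inr 0) (.inr 0)],
    !![(t : M4) (.inl 1) (.inl 1), (t : M4) (.inl 1) (.inr 1); (t : M4) (.inr 1) (.inl 1), (t : M4) (.inr 1) (.inr 1)],
    ?_, ?_, ?_⟩
  · show (t : M4) (.inl 0) (.inl 0) * (t : M4) (.inr 0) (.inr 0) + (t : M4) (.inl 0) (.inr 0) * (t : M4) (.inr 0) (.inl 0) = 1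
    rw [← c6]; ring
  · show (t : M4) (.inl 1) (.inl 1) * (t : M4) (.inr 1) (.inr 1) + (t : M4) (.inl 1) (.inr 1) * (t : M4) (.inr 1) (.inl 1) = 1
    rw [← c1]; ring
  · ext i j
    rcases i with i | i <;> rcases j with j | j <;> fin_cases i <;> fin_cases j <;>
      simp [Four.dg, h1, h2, h3, h4, k1, k2, k3, k4]

theorem SA.rest {t : G} (h : SA t) : (t : M4) (.inl 0) (.inl 0) = 0 ∧ (t : M4) (.inl 0) (.inr 0) = 0 ∧
    (t : M4) (.inr 0) (.inl 0) = 0 ∧ (t : M4) (.inr 0) (.inr 0) = 0 := by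
  have := charF4
  obtain ⟨h1, h2, h3, h4⟩ := h
  have c1 := col_rel t.2 (.inl 1) (.inr 1)
  have c2 := col_rel t.2 (.inl 0) (.inl 1)
  have c3 := col_rel t.2 (.inl 0) (.inr 1)
  have c4 := col_rel t.2 (.inr 0) (.inl 1)
  have c5 := col_rel t.2 (.inr 0) (.inr 1)
  rw [if_pos (by decide)] at c1
  rw [if_neg (by decide)] at c2 c3 c4 c5
  rw [h1, h2, h3, h4] at c1
  rw [h1, h2] at c2 c4
  rw [h3, h4] at c3 c5
  simp only [mul_zero, zero_mul, add_zero] at c1 c2 c3 c4 c5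
  obtain ⟨k1, k2⟩ := solve ((t : M4) (.inl 0) (.inl 0)) ((t : M4) (.inr 0) (.inl 0)) ((t : M4) (.inl 0) (.inl 1))
    ((t : M4) (.inr 0) (.inl 1)) ((t : M4) (.inl 0) (.inr 1)) ((t : M4) (.inr 0) (.inr 1)) c1 (by rw [← c2]) (by rw [← c3])
  obtain ⟨k3, k4⟩ := solve ((t : M4) (.inl 0) (.inr 0)) ((t : M4) (.inr 0) (.inr 0)) ((t : M4) (.inl 0) (.inl 1))
    ((t : M4) (.inr 0) (.inl 1)) ((t : M4) (.inl 0) (.inr 1)) ((t : M4) (.inr 0) (.inr 1)) c1 (by rw [← c4]) (by rw [← c5])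
  exact ⟨k1, k3, k2, k4⟩

theorem SA.mul {g k : G} (hg : SA g) (hk : SA k) : SB (g * k) := by
  have := charF4
  obtain ⟨k1, k2, k3, k4⟩ := hg.rest
  obtain ⟨h1, h2, h3, h4⟩ := hk
  refine ⟨?_, ?_, ?_, ?_⟩
  all_goals
    rw [Submonoid.coe_mul, mul_eq]
    simp only [h1, h2, h3, h4, k1, k2, k3, k4, mul_zero, zero_mul, add_zero]

theorem col_inl1 (t : G) : (t : M4).mulVec (bl 0 1 0 0) =
    bl ((t : M4) (.inl 0) (.inl 1)) ((t : M4) (.inl 1) (.inl 1)) ((t : M4) (.inr 0) (.inl 1)) ((t : M4) (.inr 1) (.inl 1)) := by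
  have := charF4
  funext i
  rw [mulVec_eq]
  rcases i with i | i <;> fin_cases i <;> simp [bl]

theorem col_inr1 (t : G) : (t : M4).mulVec (bl 0 0 0 1) =
    bl ((t : M4) (.inl 0) (.inr 1)) ((t : M4) (.inl 1) (.inr 1)) ((t : M4) (.inr 0) (.inr 1)) ((t : M4) (.inr 1) (.inr 1)) := by
  have := charF4
  funext i
  rw [mulVec_eq]
  rcases i with i | i <;> fin_cases i <;> simp [bl]

theorem mix_or (hT : H ≠ ⊤) (ha : ya ∈ H) (hB : ∀ q s, Tr H (bl 0 q 0 s)) {p q r s : F4} (h : Tr H (bl p q r s)) :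
    (p = 0 ∧ r = 0) ∨ (q = 0 ∧ s = 0) := by
  by_contra hcon
  push Not at hcon
  apply hT
  refine eq_top_of_mix ha hB h ?_ ?_
  · by_cases h1 : p = 0
    · exact Or.inr (hcon.1 h1)
    · exact Or.inl h1
  · by_cases h1 : q = 0
    · exact Or.inr (hcon.2 h1)
    · exact Or.inl h1

theorem stab (hT : H ≠ ⊤) (ha : ya ∈ H) (hB : ∀ q s, Tr H (bl 0 q 0 s)) {g : G} (hg : g ∈ H) : SB g ∨ SA g := by
  have t1 := (hB 1 0).act hg
  have t2 := (hB 0 1).act hg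
  have t3 := (hB 1 1).act hg
  have e : bl 0 1 0 1 = bl 0 1 0 0 + bl 0 0 0 1 := by rw [bl_add]; simp
  rw [e, Matrix.mulVec_add, col_inl1, col_inr1, bl_add] at t3
  rw [col_inl1] at t1
  rw [col_inr1] at t2
  have m1 := mix_or hT ha hB t1
  have m2 := mix_or hT ha hB t2
  have m3 := mix_or hT ha hB t3
  unfold SB SA
  rcases m1 with ⟨a1, a2⟩ | ⟨a1, a2⟩ <;> rcases m2 with ⟨b1, b2⟩ | ⟨b1, b2⟩
  · exact Or.inl ⟨a1, a2, b1, b2⟩
  · rcases m3 with ⟨c1, c2⟩ | ⟨c1, c2⟩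
    · rw [a1, zero_add] at c1
      rw [a2, zero_add] at c2
      exact Or.inl ⟨a1, a2, c1, c2⟩
    · rw [b1, add_zero] at c1
      rw [b2, add_zero] at c2
      exact Or.inr ⟨c1, c2, b1, b2⟩
  · rcases m3 with ⟨c1, c2⟩ | ⟨c1, c2⟩
    · rw [b1, add_zero] at c1
      rw [b2, add_zero] at c2
      exact Or.inl ⟨c1, c2, b1, b2⟩
    · rw [a1, zero_add] at c1
      rw [a2, zero_add] at c2
      exact Or.inr ⟨a1, a2, c1, c2⟩
  · exact Or.inr ⟨a1, a2, b1, b2⟩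

/-- upper unitriangular -/
def U (c : F4) : M2 := !![1, c; 0, 1]
/-- lower unitriangular -/
def L (c : F4) : M2 := !![1, 0; c, 1]

theorem transv_e1 (c : F4) : (transv (bl 0 1 0 0) c : M4) = dg 1 (U c) := by
  rw [coe_transv, ← Matrix.mulVec_injective.eq_iff]
  have := charF4
  funext x
  rw [sympTransvection_mulVec, bl_eta x, form_bl, bl_smul, bl_add]
  funext i
  rw [mulVec_eq]
  rcases i with i | i <;> fin_cases i <;> simp [bl, dg, U, Matrix.one_apply]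

theorem transv_e2 (c : F4) : (transv (bl 0 0 0 1) c : M4) = dg 1 (L c) := by
  rw [coe_transv, ← Matrix.mulVec_injective.eq_iff]
  have := charF4
  funext x
  rw [sympTransvection_mulVec, bl_eta x, form_bl, bl_smul, bl_add]
  funext i
  rw [mulVec_eq]
  rcases i with i | i <;> fin_cases i <;> simp [bl, dg, L, Matrix.one_apply, add_comm]

theorem transv_f1 (c : F4) : (transv (bl 1 0 0 0) c : M4) = dg (U c) 1 := by
  rw [coe_transv, ← Matrix.mulVec_injective.eq_iff]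
  have := charF4
  funext x
  rw [sympTransvection_mulVec, bl_eta x, form_bl, bl_smul, bl_add]
  funext i
  rw [mulVec_eq]
  rcases i with i | i <;> fin_cases i <;> simp [bl, dg, U, Matrix.one_apply]

theorem transv_f2 (c : F4) : (transv (bl 0 0 1 0) c : M4) = dg (L c) 1 := by
  rw [coe_transv, ← Matrix.mulVec_injective.eq_iff]
  have := charF4
  funext x
  rw [sympTransvection_mulVec, bl_eta x, form_bl, bl_smul, bl_add]
  funext i
  rw [mulVec_eq]
  rcases i with i | i <;> fin_cases i <;> simp [bl, dg, L, Matrix.one_apply, add_comm]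

theorem gen (X : M2) (hX : D1 X) : ∃ a b c d : F4, X = L a * U b * L c * U d := by
  have key : ∀ p q r s : F4, p * s + q * r = 1 → ∃ a b c d : F4, !![p, q; r, s] = L a * U b * L c * U d := by
    intro p q r s h
    by_cases hr : r = 0
    · subst hr
      have h1 : ∀ p q s : F4, p * s + q * 0 = 1 →
          !![p, q; 0, s] = L 1 * U ((p + 1) / p) * L p * U ((q + s + 1) / p) := by decide +kernel
      exact ⟨_, _, _, _, h1 p q s h⟩
    · have h1 : ∀ p q r s : F4, r ≠ 0 → p * s + q * r = 1 →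
          !![p, q; r, s] = L 0 * U ((p + 1) / r) * L r * U ((s + 1) / r) := by decide +kernel
      exact ⟨_, _, _, _, h1 p q r s hr h⟩
  obtain ⟨a, b, c, d, h⟩ := key (X 0 0) (X 0 1) (X 1 0) (X 1 1) hX
  refine ⟨a, b, c, d, ?_⟩
  rw [← h]
  ext i j
  fin_cases i <;> fin_cases j <;> rfl

theorem mem_of_B (h1 : Tr H (bl 0 1 0 0)) (h2 : Tr H (bl 0 0 0 1)) {t : G} {Y : M2} (hY : D1 Y)
    (ht : (t : M4) = dg 1 Y) : t ∈ H := by
  obtain ⟨a, b, c, d, h⟩ := gen Y hY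
  have h3 : t = transv (bl 0 0 0 1) a * transv (bl 0 1 0 0) b * transv (bl 0 0 0 1) c * transv (bl 0 1 0 0) d := by
    apply Subtype.ext
    rw [Submonoid.coe_mul, Submonoid.coe_mul, Submonoid.coe_mul, transv_e1, transv_e2, transv_e1, transv_e2, dg_mul,
      dg_mul, dg_mul, ht, h, one_mul, one_mul, one_mul]
  rw [h3]
  exact H.mul_mem (H.mul_mem (H.mul_mem (h2 a) (h1 b)) (h2 c)) (h1 d)

theorem mem_of_A (h1 : Tr H (bl 1 0 0 0)) (h2 : Tr H (bl 0 0 1 0)) {t : G} {X : M2} (hX : D1 X)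
    (ht : (t : M4) = dg X 1) : t ∈ H := by
  obtain ⟨a, b, c, d, h⟩ := gen X hX
  have h3 : t = transv (bl 0 0 1 0) a * transv (bl 1 0 0 0) b * transv (bl 0 0 1 0) c * transv (bl 1 0 0 0) d := by
    apply Subtype.ext
    rw [Submonoid.coe_mul, Submonoid.coe_mul, Submonoid.coe_mul, transv_f1, transv_f2, transv_f1, transv_f2, dg_mul,
      dg_mul, dg_mul, ht, h, one_mul, one_mul, one_mul]
  rw [h3]
  exact H.mul_mem (H.mul_mem (H.mul_mem (h2 a) (h1 b)) (h2 c)) (h1 d)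

theorem D1_one : D1 1 := by decide

theorem mem_of_SB (h1 : ∀ q s, Tr H (bl 0 q 0 s)) (h2 : ∀ q s, Tr H (bl q 0 s 0)) {t : G} (ht : SB t) : t ∈ H := by
  obtain ⟨X, Y, hX, hY, h⟩ := ht.dg
  have h3 : t = ⟨dg X 1, dg_mem hX D1_one⟩ * ⟨dg 1 Y, dg_mem D1_one hY⟩ := by
    apply Subtype.ext
    rw [Submonoid.coe_mul, h]
    show dg X Y = dg X 1 * dg 1 Y
    rw [dg_mul, mul_one, one_mul]
  rw [h3]
  exact H.mul_mem (mem_of_A (h2 1 0) (h2 0 1) hX rfl) (mem_of_B (h1 1 0) (h1 0 1) hY rfl)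

/-- **a subgroup of the type `A₅ wr 2` is maximal** -/
theorem coatom_of_SA (hT : H ≠ ⊤) (ha : ya ∈ H) (hB : ∀ q s, Tr H (bl 0 q 0 s)) {g : G} (hg : g ∈ H) (hA : SA g) :
    IsCoatom H := by
  have hA' : ∀ q s, Tr H (bl q 0 s 0) := by
    have h1 := (hB 1 0).act hg
    rw [col_inl1, hA.1, hA.2.1] at h1
    have h2 : (g : M4) (.inl 0) (.inl 1) ≠ 0 ∨ (g : M4) (.inr 0) (.inl 1) ≠ 0 := by
      by_contra hcon
      push Not at hcon
      have c1 := @col_rel F4 _ charF4 (g : M4) g.2 (.inl 1) (.inr 1)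
      rw [if_pos (by decide), hA.1, hA.2.1, hcon.1, hcon.2] at c1
      simp at c1
    exact tr_pure ha h1 h2
  refine ⟨hT, fun K hK => ?_⟩
  by_contra hKT
  apply hK.not_ge
  intro k hk
  have ha' : ya ∈ K := hK.le ha
  have hB' : ∀ q s, Tr K (bl 0 q 0 s) := fun q s c => hK.le (hB q s c)
  rcases stab hKT ha' hB' hk with h | h
  · exact mem_of_SB hB hA' h
  · have h1 : g * k ∈ H := mem_of_SB hB hA' (hA.mul h)
    rwa [Subgroup.mul_mem_cancel_left H hg] at h1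

theorem sq_of_four (X : M2) (h : X ^ 4 = 1) : X ^ 2 = 1 := by
  have key : ∀ p q r s : F4, !![p, q; r, s] * !![p, q; r, s] * (!![p, q; r, s] * !![p, q; r, s]) = (1 : M2) →
      !![p, q; r, s] * !![p, q; r, s] = (1 : M2) := by decide +kernel
  have e : X = !![X 0 0, X 0 1; X 1 0, X 1 1] := by
    ext i j
    fin_cases i <;> fin_cases j <;> rfl
  rw [show (4 : ℕ) = 2 * 2 by norm_num, pow_mul, pow_two, pow_two] at h
  rw [pow_two]
  rw [e] at h ⊢
  exact key _ _ _ _ h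

/-- **no elements of order four** -/
theorem no_four (hT : H ≠ ⊤) (hc : ¬ IsCoatom H) (ha : ya ∈ H) (hB : ∀ q s, Tr H (bl 0 q 0 s)) :
    ∀ t ∈ H, orderOf t ≠ 4 := by
  intro t ht h4
  rcases stab hT ha hB ht with h | h
  · obtain ⟨X, Y, hX, hY, h1⟩ := h.dg
    have h2 : t ^ 4 = 1 := by rw [← h4]; exact pow_orderOf_eq_one t
    have h3 : dg (X ^ 4) (Y ^ 4) = dg 1 1 := by
      rw [← dg_pow, ← h1, dg_one]
      exact congrArg Subtype.val h2
    obtain ⟨h5, h6⟩ := dg_inj h3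
    have h7 : t ^ 2 = 1 := by
      apply Subtype.ext
      show (t : M4) ^ 2 = 1
      rw [h1, dg_pow, sq_of_four X h5, sq_of_four Y h6, dg_one]
    have h8 := orderOf_dvd_of_pow_eq_one h7
    rw [h4] at h8
    norm_num at h8
  · exact hc (coatom_of_SA hT ha hB ht h)

end Cfsg.Agent.H916.Der.Four
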