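import Cfsg.Agent.H916.Der.FourStab

/-!
# `Sp₄(4)`: Sylow arguments I (helper916, for S3502)
-/

set_option autoImplicit false

namespace Cfsg.Agent.H916.Der.Four

open Subgroup Cfsg Cfsg.Agent.Lib.FieldFour Cfsg.Agent.H547.Der.Four Cfsg.Agent.ClassicalGeometry.SympBasic
  Cfsg.Agent.ClassicalGeometry.Sp4Graph

/-- two commuting elements of order `p` -/
theorem exists_sq {T : Type*} [Group T] {p : ℕ} (hp : p.Prime) {x y : T} (hx : orderOf x = p)
    (hy : orderOf y = p) (hxy : Commute x y) (hne : y ∉ zpowers x) :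
    ∃ P : Subgroup T, Nat.card P = p ^ 2 ∧ x ∈ P ∧ y ∈ P ∧ (∀ z ∈ P, ∃ i j : ℕ, i < p ∧ j < p ∧ z = x ^ i * y ^ j) ∧
      ∀ M : Subgroup T, x ∈ M → y ∈ M → P ≤ M := by
  have hcomm : ∀ (a : zpowers x) (b : zpowers y), Commute ((zpowers x).subtype a) ((zpowers y).subtype b) := by
    rintro ⟨a, ha⟩ ⟨b, hb⟩
    obtain ⟨i, rfl⟩ := mem_zpowers_iff.1 ha
    obtain ⟨j, rfl⟩ := mem_zpowers_iff.1 hb
    exact (hxy.zpow_zpow i j)
  let f : zpowers x × zpowers y →* T := ((zpowers x).subtype).noncommCoprod ((zpowers y).subtype) hcomm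
  have hf : Function.Injective f := by
    rw [← MonoidHom.ker_eq_bot_iff, eq_bot_iff]
    rintro ⟨⟨a, ha⟩, ⟨b, hb⟩⟩ h
    have h1 : a * b = 1 := h
    have h2 : b ∈ zpowers x := by
      rw [← inv_eq_of_mul_eq_one_right h1]
      exact inv_mem ha
    have hb1 : b = 1 := by
      by_contra hb1
      apply hne
      have h3 : orderOf b = p := by
        rcases (Nat.dvd_prime hp).1 (hy ▸ orderOf_dvd_of_mem_zpowers hb : orderOf b ∣ p) with h4 | h4
        · exact absurd (orderOf_eq_one_iff.1 h4) hb1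
        · exact h4
      have h5 : zpowers b = zpowers y := by
        have : Finite (zpowers y) := Nat.finite_of_card_ne_zero (by rw [Nat.card_zpowers, hy]; exact hp.ne_zero)
        refine Subgroup.eq_of_le_of_card_ge (zpowers_le.2 hb) ?_
        rw [Nat.card_zpowers, Nat.card_zpowers, hy, h3]
      have h6 : y ∈ zpowers b := by rw [h5]; exact mem_zpowers y
      exact zpowers_le.2 h2 h6
    have ha1 : a = 1 := by rwa [hb1, mul_one] at h1
    subst hb1 ha1
    rfl
  refine ⟨f.range, ?_, ⟨(⟨x, mem_zpowers x⟩, 1), mul_one x⟩, ⟨(1, ⟨y, mem_zpowers y⟩), one_mul y⟩, ?_, ?_⟩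
  · rw [← Nat.card_congr (MonoidHom.ofInjective hf).toEquiv, Nat.card_prod, Nat.card_zpowers, Nat.card_zpowers, hx, hy,
      pow_two]
  · rintro z ⟨⟨⟨a, ha⟩, ⟨b, hb⟩⟩, rfl⟩
    have hpow : ∀ {c : T}, orderOf c = p → ∀ d ∈ zpowers c, ∃ i < p, d = c ^ i := by
      intro c hc d hd
      have h1 : IsOfFinOrder c := orderOf_pos_iff.1 (by rw [hc]; exact hp.pos)
      obtain ⟨n, hn⟩ := h1.mem_powers_iff_mem_zpowers.2 hd
      refine ⟨n % p, Nat.mod_lt _ hp.pos, ?_⟩
      rw [← hc, pow_mod_orderOf]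
      exact hn.symm
    obtain ⟨i, hi, h1⟩ := hpow hx a ha
    obtain ⟨j, hj, h2⟩ := hpow hy b hb
    exact ⟨i, j, hi, hj, by rw [← h1, ← h2]; rfl⟩
  · rintro M hxM hyM z ⟨⟨⟨a, ha⟩, ⟨b, hb⟩⟩, rfl⟩
    exact M.mul_mem (zpowers_le.2 hxM ha) (zpowers_le.2 hyM hb)

theorem sq_dvd {T : Type*} [Group T] {p : ℕ} (hp : p.Prime) {x y : T} (hx : orderOf x = p)
    (hy : orderOf y = p) (hxy : Commute x y) (hne : y ∉ zpowers x) {M : Subgroup T} (hxM : x ∈ M) (hyM : y ∈ M) :
    p ^ 2 ∣ Nat.card M := by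
  obtain ⟨P, hP, -, -, -, h⟩ := exists_sq hp hx hy hxy hne
  rw [← hP]
  exact Subgroup.card_dvd_of_le (h M hxM hyM)

/-- order 5 -/
def K : M2 := !![0, 1; 1, .w]
/-- order 3 -/
def K3 : M2 := !![0, 1; 1, 1]

theorem K_D1 : D1 K := by decide
theorem K3_D1 : D1 K3 := by decide

theorem K_pow : K ^ 5 = 1 ∧ K ≠ 1 := by decide +kernel
theorem K3_pow : K3 ^ 3 = 1 ∧ K3 ≠ 1 := by decide +kernel

theorem ya_coe : ((ya : G) : M4) = dg K 1 := by decide +kernel

/-- order 5 on `B` -/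
def yb : G := ⟨dg 1 K, dg_mem D1_one K_D1⟩
/-- order 3 on `A` -/
def xA : G := ⟨dg K3 1, dg_mem K3_D1 D1_one⟩
/-- order 3 on `B` -/
def xB : G := ⟨dg 1 K3, dg_mem D1_one K3_D1⟩
/-- order 15 -/
def z15 : G := ⟨dg K K3, dg_mem K_D1 K3_D1⟩

theorem coe_pow_dg {t : G} {X Y : M2} (h : (t : M4) = dg X Y) (n : ℕ) : ((t ^ n : G) : M4) = dg (X ^ n) (Y ^ n) := by
  rw [← dg_pow, ← h]
  rfl

theorem order_dg {t : G} {X Y : M2} (h : (t : M4) = dg X Y) {p : ℕ} (hp : p.Prime) (hX : X ^ p = 1) (hY : Y ^ p = 1)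
    (hne : dg X Y ≠ 1) : orderOf t = p := by
  have := Fact.mk hp
  refine orderOf_eq_prime ?_ ?_
  · apply Subtype.ext
    rw [coe_pow_dg h, hX, hY, dg_one]
    rfl
  · intro h1
    apply hne
    rw [← h, h1]
    rfl

theorem order_ya : orderOf ya = 5 :=
  order_dg ya_coe (by norm_num) K_pow.1 (one_pow 5) (by
    rw [← dg_one]
    exact fun h => K_pow.2 (dg_inj h).1)

theorem order_yb : orderOf yb = 5 :=
  order_dg (X := 1) (Y := K) rfl (by norm_num) (one_pow 5) K_pow.1 (by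
    rw [← dg_one]
    exact fun h => K_pow.2 (dg_inj h).2)

theorem order_xA : orderOf xA = 3 :=
  order_dg (X := K3) (Y := 1) rfl (by norm_num) K3_pow.1 (one_pow 3) (by
    rw [← dg_one]
    exact fun h => K3_pow.2 (dg_inj h).1)

theorem order_xB : orderOf xB = 3 :=
  order_dg (X := 1) (Y := K3) rfl (by norm_num) (one_pow 3) K3_pow.1 (by
    rw [← dg_one]
    exact fun h => K3_pow.2 (dg_inj h).2)

theorem z15_six : z15 ^ 6 = ya := by
  apply Subtype.ext
  rw [coe_pow_dg (X := K) (Y := K3) rfl, ya_coe, pow_succ, K_pow.1, one_mul, show (6 : ℕ) = 3 * 2 by norm_num, pow_mul,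
    K3_pow.1, one_pow]

theorem z15_ten : z15 ^ 10 = xB := by
  apply Subtype.ext
  rw [coe_pow_dg (X := K) (Y := K3) rfl, show (10 : ℕ) = 5 * 2 by norm_num, pow_mul, K_pow.1, one_pow,
    show (5 * 2 : ℕ) = 3 * 3 + 1 by norm_num, pow_succ K3, pow_mul, K3_pow.1, one_pow, one_mul]
  rfl

theorem z15_fifteen : z15 ^ 15 = 1 := by
  rw [show (15 : ℕ) = 6 + (6 + 3) by norm_num]
  apply Subtype.ext
  rw [coe_pow_dg (X := K) (Y := K3) rfl, show (6 + (6 + 3) : ℕ) = 5 * 3 by norm_num, pow_mul, K_pow.1, one_pow,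
    mul_comm 5 3, pow_mul, K3_pow.1, one_pow, dg_one]
  rfl

theorem order_z15 : orderOf z15 = 15 := by
  have h1 : orderOf z15 ∣ 15 := orderOf_dvd_of_pow_eq_one z15_fifteen
  have h3 : 5 ∣ orderOf z15 := by
    rw [← order_ya, ← z15_six]
    exact orderOf_pow_dvd 6
  have h4 : 3 ∣ orderOf z15 := by
    rw [← order_xB, ← z15_ten]
    exact orderOf_pow_dvd 10
  have h5 : 3 * 5 ∣ orderOf z15 := Nat.Coprime.mul_dvd_of_dvd_of_dvd (by norm_num) h4 h3
  exact Nat.dvd_antisymm h1 (by norm_num at h5; exact h5)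

theorem comm_dg {s t : G} {X Y X' Y' : M2} (hs : (s : M4) = dg X Y) (ht : (t : M4) = dg X' Y')
    (h1 : X * X' = X' * X) (h2 : Y * Y' = Y' * Y) : Commute s t := by
  apply Subtype.ext
  rw [Submonoid.coe_mul, Submonoid.coe_mul, hs, ht, dg_mul, dg_mul, h1, h2]

theorem comm_xAB : Commute xA xB := comm_dg (X := K3) (Y := 1) (X' := 1) (Y' := K3) rfl rfl (by simp) (by simp)

theorem comm_yab : Commute ya yb := comm_dg (X := K) (Y := 1) (X' := 1) (Y' := K) ya_coe rfl (by simp) (by simp)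

theorem not_mem_zpowers_dg {s t : G} {X Y : M2} (hs : (s : M4) = dg X 1) (ht : (t : M4) = dg 1 Y) (hY : Y ≠ 1)
    (hfin : IsOfFinOrder s) : t ∉ zpowers s := by
  intro h
  obtain ⟨n, hn⟩ := hfin.mem_powers_iff_mem_zpowers.2 h
  have h1 : ((s ^ n : G) : M4) = (t : M4) := congrArg Subtype.val hn
  rw [coe_pow_dg hs, ht, one_pow] at h1
  exact hY (dg_inj h1).2.symm

theorem nine_dvd {H : Subgroup G} (h1 : xA ∈ H) (h2 : xB ∈ H) : 3 ^ 2 ∣ Nat.card H :=
  sq_dvd (by norm_num) order_xA order_xB comm_xAB (not_mem_zpowers_dg (X := K3) (Y := K3) rfl rfl K3_pow.2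
    (orderOf_pos_iff.1 (by rw [order_xA]; norm_num))) h1 h2

theorem U_mul (c d : F4) : U c * U d = U (c + d) := by
  revert c d
  decide +kernel

theorem U_zero : U 0 = 1 := by decide

/-- the transvections with centres `e₀`, `e₁` -/
def fU : Multiplicative (F4 × F4) →* G where
  toFun x := ⟨dg (U (Multiplicative.toAdd x).1) (U (Multiplicative.toAdd x).2), dg_mem
    (by have : ∀ c : F4, D1 (U c) := by decide
        exact this _) (by have : ∀ c : F4, D1 (U c) := by decide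
                          exact this _)⟩
  map_one' := by
    apply Subtype.ext
    show dg (U 0) (U 0) = 1
    rw [U_zero, dg_one]
  map_mul' x y := by
    apply Subtype.ext
    show dg (U _) (U _) = dg _ _ * dg _ _
    rw [dg_mul, U_mul, U_mul]
    rfl

theorem fU_p : IsPGroup 2 fU.range := by
  have h1 : IsPGroup 2 (Multiplicative (F4 × F4)) := by
    refine IsPGroup.of_card (n := 4) ?_
    rw [Nat.card_congr Multiplicative.toAdd, Nat.card_prod, F4.natCard]
    norm_num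
  exact h1.of_surjective fU.rangeRestrict fU.rangeRestrict_surjective

theorem transv_mem_fU (c : F4) : transv (bl 1 0 0 0) c ∈ fU.range := by
  refine ⟨Multiplicative.ofAdd (c, 0), ?_⟩
  apply Subtype.ext
  rw [transv_f1]
  show dg (U c) (U 0) = _
  rw [U_zero]

theorem transv_mem_fU' (c : F4) : transv (bl 0 1 0 0) c ∈ fU.range := by
  refine ⟨Multiplicative.ofAdd (0, c), ?_⟩
  apply Subtype.ext
  rw [transv_e1]
  show dg (U 0) (U c) = _
  rw [U_zero]

theorem mulVec_inj (g : G) {x y : V4} (h : (g : M4).mulVec x = (g : M4).mulVec y) : x = y := by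
  have h1 : ∀ x : V4, ((g⁻¹ : G) : M4).mulVec ((g : M4).mulVec x) = x := by
    intro x
    rw [← coe_mul_mulVec, inv_mul_cancel]
    exact Matrix.one_mulVec x
  rw [← h1 x, ← h1 y, h]

theorem dep (q s q' s' : F4) (h : q * s' + s * q' = 0) : ∃ l m : F4, (l ≠ 0 ∨ m ≠ 0) ∧ l * q + m * q' = 0 ∧
    l * s + m * s' = 0 := by
  revert q s q' s'
  decide +kernel

/-- a subgroup containing a Sylow 2-subgroup and `z15` has order divisible by 9 -/
theorem nine_of_two (hG : Nat.card G = 979200) {H : Subgroup G} (h256 : 256 ∣ Nat.card H) (hz : z15 ∈ H) :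
    9 ∣ Nat.card H := by
  have hfin : Finite G := Nat.finite_of_card_ne_zero (by rw [hG]; norm_num)
  have hp2 : Fact (Nat.Prime 2) := ⟨Nat.prime_two⟩
  have ha : ya ∈ H := by rw [← z15_six]; exact H.pow_mem hz 6
  have hb : xB ∈ H := by rw [← z15_ten]; exact H.pow_mem hz 10
  -- Sylow
  obtain ⟨Q, hQ⟩ := fU_p.exists_le_sylow
  obtain ⟨Q', hQ'⟩ := Sylow.exists_subgroup_card_pow_prime (G := H) 2 (n := 8) (by norm_num; exact h256)
  have hcard : Nat.card (Q'.map H.subtype) = 2 ^ (Nat.card G).factorization 2 := by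
    rw [Nat.card_congr (Subgroup.equivMapOfInjective Q' H.subtype H.subtype_injective).toEquiv.symm, hQ', hG,
      show (979200 : ℕ) = 2 ^ 8 * 3825 by norm_num, Nat.factorization_mul (by norm_num) (by norm_num),
      Finsupp.add_apply, Nat.Prime.factorization_pow Nat.prime_two, Finsupp.single_eq_same,
      Nat.factorization_eq_zero_of_not_dvd (by norm_num)]
  obtain ⟨g, hg⟩ := MulAction.exists_smul_eq G Q (Sylow.ofCard _ hcard)
  have hmem : ∀ t ∈ fU.range, g * t * g⁻¹ ∈ H := by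
    intro t ht
    have h1 : g * t * g⁻¹ ∈ ((g • Q : Sylow 2 G) : Subgroup G) := by
      rw [Sylow.smul_def, Sylow.pointwise_smul_def]
      exact Subgroup.mem_map_of_mem (MulAut.conj g).toMonoidHom (hQ ht)
    rw [hg] at h1
    obtain ⟨x, -, hx⟩ := h1
    rw [← hx]
    exact x.2
  have t1 : Tr H ((g : M4).mulVec (bl 1 0 0 0)) := fun c => by
    rw [← conj_transv]
    exact hmem _ (transv_mem_fU c)
  have t2 : Tr H ((g : M4).mulVec (bl 0 1 0 0)) := fun c => by
    rw [← conj_transv]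
    exact hmem _ (transv_mem_fU' c)
  have hA : ∀ q s, Tr H (bl q 0 s 0) := by
    by_cases h1 : ((g : M4).mulVec (bl 1 0 0 0)) (.inl 0) ≠ 0 ∨ ((g : M4).mulVec (bl 1 0 0 0)) (.inr 0) ≠ 0
    · rw [bl_eta ((g : M4).mulVec (bl 1 0 0 0))] at t1
      exact tr_pure ha t1 h1
    · by_cases h2 : ((g : M4).mulVec (bl 0 1 0 0)) (.inl 0) ≠ 0 ∨ ((g : M4).mulVec (bl 0 1 0 0)) (.inr 0) ≠ 0
      · rw [bl_eta ((g : M4).mulVec (bl 0 1 0 0))] at t2
        exact tr_pure ha t2 h2
      · exfalso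
        push Not at h1 h2
        have h3 : sympForm 2 F4 ((g : M4).mulVec (bl 1 0 0 0)) ((g : M4).mulVec (bl 0 1 0 0)) = 0 := by
          rw [sympForm_mulVec g.2, form_bl]
          decide
        rw [bl_eta ((g : M4).mulVec (bl 1 0 0 0)), bl_eta ((g : M4).mulVec (bl 0 1 0 0)), form_bl, h1.1, h1.2, h2.1,
          h2.2] at h3
        simp only [mul_zero, zero_add] at h3
        obtain ⟨l, m, hlm, h4, h5⟩ := dep _ _ _ _ h3
        have h6 : (g : M4).mulVec (bl l m 0 0) = (g : M4).mulVec (bl 0 0 0 0) := by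
          have e1 : bl l m 0 0 = l • bl 1 0 0 0 + m • bl 0 1 0 0 := by
            rw [bl_smul, bl_smul, bl_add]
            simp
          rw [e1, Matrix.mulVec_add, Matrix.mulVec_smul, Matrix.mulVec_smul, bl_eta ((g : M4).mulVec (bl 1 0 0 0)),
            bl_eta ((g : M4).mulVec (bl 0 1 0 0)), h1.1, h1.2, h2.1, h2.2, bl_smul, bl_smul, bl_add, h4, h5, ← bl_zero,
            Matrix.mulVec_zero]
          simp [bl_zero]
        obtain ⟨h7, h8, -⟩ := bl_inj (mulVec_inj g h6)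
        rcases hlm with h | h
        · exact h h7
        · exact h h8
  exact nine_dvd (mem_of_A (hA 1 0) (hA 0 1) K3_D1 rfl) hb

end Cfsg.Agent.H916.Der.Four
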