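import Cfsg.Agent.H916.Der.FourSylA
import Cfsg.Agent.S0985

/-!
# `Sp₄(4)`: Sylow arguments II (helper916, for S3502)
-/

set_option autoImplicit false

namespace Cfsg.Agent.H916.Der.Four

open Subgroup Cfsg Cfsg.Agent.Lib.FieldFour Cfsg.Agent.H547.Der.Four Cfsg.Agent.ClassicalGeometry.SympBasic
  Cfsg.Agent.ClassicalGeometry.Sp4Graph

theorem M2_eta (X : M2) : X = !![X 0 0, X 0 1; X 1 0, X 1 1] := by
  ext i j
  fin_cases i <;> fin_cases j <;> rfl

theorem commK (X : M2) (hd : D1 X) (h : X * K = K * X) : ∃ k : Fin 5, X = K ^ (k : ℕ) := by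
  have key : ∀ p q r s : F4, D1 !![p, q; r, s] → !![p, q; r, s] * K = K * !![p, q; r, s] →
      ∃ k : Fin 5, !![p, q; r, s] = K ^ (k : ℕ) := by decide +kernel
  rw [M2_eta X] at hd h ⊢
  exact key _ _ _ _ hd h

theorem comm_ya {t : G} (h : Commute t ya) : ∃ (k : Fin 5) (Y : M2), D1 Y ∧ (t : M4) = dg (K ^ (k : ℕ)) Y := by
  have hch := charF4
  have h0 : (t : M4) * dg K 1 = dg K 1 * (t : M4) := by
    rw [← ya_coe]
    exact congrArg Subtype.val h.eq
  have h1 : ∀ i j, ((t : M4) * dg K 1) i j = (dg K 1 * (t : M4)) i j := fun i j => by rw [h0]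
  have e1 := h1 (.inl 0) (.inl 1)
  have e2 := h1 (.inr 0) (.inl 1)
  have e3 := h1 (.inl 0) (.inr 1)
  have e4 := h1 (.inr 0) (.inr 1)
  simp only [mul_eq, dg, Matrix.fromBlocks_apply₁₁, Matrix.fromBlocks_apply₁₂, Matrix.fromBlocks_apply₂₁,
    Matrix.fromBlocks_apply₂₂] at e1 e2 e3 e4
  simp [K] at e1 e2 e3 e4
  have key : ∀ x y : F4, x = y → y = x + .w * y → x = 0 ∧ y = 0 := by decide
  obtain ⟨a1, a2⟩ := key _ _ e1 e2
  obtain ⟨a3, a4⟩ := key _ _ e3 e4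
  have hs : SB t := ⟨a1, a2, a3, a4⟩
  obtain ⟨X, Y, hX, hY, h2⟩ := hs.dg
  rw [h2, dg_mul, dg_mul] at h0
  obtain ⟨k, hk⟩ := commK X hX (dg_inj h0).1
  exact ⟨k, Y, hY, by rw [h2, hk]⟩

theorem comm_yab' {t : G} (h : Commute t ya) (h' : Commute t yb) :
    ∃ (k l : Fin 5), (t : M4) = dg (K ^ (k : ℕ)) (K ^ (l : ℕ)) := by
  obtain ⟨k, Y, hY, h1⟩ := comm_ya h
  have h0 : (t : M4) * dg 1 K = dg 1 K * (t : M4) := congrArg Subtype.val h'.eq
  rw [h1, dg_mul, dg_mul] at h0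
  obtain ⟨l, hl⟩ := commK Y hY (dg_inj h0).2
  exact ⟨k, l, by rw [h1, hl]⟩

theorem dg_add (X Y X' Y' : M2) : dg X Y + dg X' Y' = dg (X + X') (Y + Y') := by
  ext i j
  rcases i with i | i <;> rcases j with j | j <;> fin_cases i <;> fin_cases j <;> simp [dg]

theorem dg_smul (c : F4) (X Y : M2) : c • dg X Y = dg (c • X) (c • Y) := by
  ext i j
  rcases i with i | i <;> rcases j with j | j <;> fin_cases i <;> fin_cases j <;> simp [dg]

theorem comm_E {t d : G} (hd : (d : M4) = dg K (K ^ 2)) (h : Commute t d) :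
    ∃ (k l : Fin 5), (t : M4) = dg (K ^ (k : ℕ)) (K ^ (l : ℕ)) := by
  have hch := charF4
  have h0 : (t : M4) * dg K (K ^ 2) = dg K (K ^ 2) * (t : M4) := by
    rw [← hd]
    exact congrArg Subtype.val h.eq
  have hc : Commute (t : M4) (dg K (K ^ 2)) := h0
  have hq : dg K 0 = dg K (K ^ 2) * dg K (K ^ 2) + (F4.v • dg K (K ^ 2) + 1) := by
    rw [dg_mul, ← dg_one, dg_smul, dg_add, dg_add]
    congr 1 <;> decide +kernel
  have hc0 : Commute (t : M4) (dg K 0) := by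
    rw [hq]
    exact (hc.mul_right hc).add_right ((hc.smul_right _).add_right (Commute.one_right _))
  have h1 : ∀ i j, ((t : M4) * dg K 0) i j = (dg K 0 * (t : M4)) i j := fun i j => by rw [hc0.eq]
  have e1 := h1 (.inl 0) (.inl 1)
  have e2 := h1 (.inr 0) (.inl 1)
  have e3 := h1 (.inl 0) (.inr 1)
  have e4 := h1 (.inr 0) (.inr 1)
  simp only [mul_eq, dg, Matrix.fromBlocks_apply₁₁, Matrix.fromBlocks_apply₁₂, Matrix.fromBlocks_apply₂₁,
    Matrix.fromBlocks_apply₂₂] at e1 e2 e3 e4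
  simp [K] at e1 e2 e3 e4
  have key : ∀ x y : F4, 0 = y → 0 = x + .w * y → x = 0 ∧ y = 0 := by decide
  obtain ⟨a1, a2⟩ := key ((t : M4) (.inl 0) (.inl 1)) ((t : M4) (.inr 0) (.inl 1)) (by rw [e1]) (by rw [← e2])
  obtain ⟨a3, a4⟩ := key ((t : M4) (.inl 0) (.inr 1)) ((t : M4) (.inr 0) (.inr 1)) (by rw [e3]) (by rw [← e4])
  have hs : SB t := ⟨a1, a2, a3, a4⟩
  obtain ⟨X, Y, hX, hY, h2⟩ := hs.dg
  rw [h2, dg_mul, dg_mul] at h0
  obtain ⟨k, hk⟩ := commK X hX (dg_inj h0).1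
  have h3 : Commute Y (K ^ 2) := (dg_inj h0).2
  have h4 : Commute Y K := by
    have h5 : K = (K ^ 2) ^ 3 := by rw [← pow_mul, show (2 * 3 : ℕ) = 5 + 1 by norm_num, pow_succ, K_pow.1, one_mul]
    rw [h5]
    exact h3.pow_right 3
  obtain ⟨l, hl⟩ := commK Y hY h4.eq
  exact ⟨k, l, by rw [h2, hk, hl]⟩

/-- `d` is (up to automorphisms) in `⟨ya⟩` or has an abelian centralizer -/
def PP (d : G) : Prop := (∃ φ : G ≃* G, φ d ∈ zpowers ya) ∨ ∀ x y : G, Commute x d → Commute y d → Commute x y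

theorem PP.conj {d g : G} (h : PP (g * d * g⁻¹)) : PP d := by
  rcases h with ⟨φ, hφ⟩ | h
  · exact Or.inl ⟨(MulAut.conj g).trans φ, hφ⟩
  · right
    intro x y hx hy
    have key : ∀ x : G, Commute x d → Commute (MulAut.conj g x) (g * d * g⁻¹) := fun x hx =>
      Commute.map hx (MulAut.conj g)
    have h1 := h _ _ (key x hx) (key y hy)
    have h2 := Commute.map h1 (MulAut.conj g).symm
    rwa [MulEquiv.symm_apply_apply, MulEquiv.symm_apply_apply] at h2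

theorem PP.pow {d : G} (h : PP d) (hd : orderOf d = 5) {n : ℕ} (hn : ¬ 5 ∣ n) : PP (d ^ n) := by
  rcases h with ⟨φ, hφ⟩ | h
  · exact Or.inl ⟨φ, by rw [map_pow]; exact pow_mem hφ n⟩
  · right
    have h1 : d ∈ zpowers (d ^ n) := by
      have hco : Nat.Coprime (orderOf d) n := by
        rw [hd]; exact (Nat.Prime.coprime_iff_not_dvd (by norm_num)).2 hn
      obtain ⟨m, hm⟩ := exists_pow_eq_self_of_coprime (n := n) (x := d) hco.symm
      rw [mem_zpowers_iff]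
      exact ⟨m, by rw [zpow_natCast]; exact hm⟩
    obtain ⟨m, hm⟩ := mem_zpowers_iff.1 h1
    have key : ∀ x : G, Commute x (d ^ n) → Commute x d := fun x hx => by
      rw [← hm]
      exact hx.zpow_right m
    exact fun x y hx hy => h x y (key x hx) (key y hy)

/-- the conjugating matrix -/
def Hi : M4 := Matrix.fromBlocks !![.o, .o; .w, .i] !![.w, .v; .v, .o] !![.v, .o; .w, .i] !![.v, .v; .v, .i]

set_option maxRecDepth 100000 in
theorem Hi_sp : Hi * Matrix.J (Fin 2) F4 * Hi.transpose = Matrix.J (Fin 2) F4 := by decide +kernel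

set_option maxRecDepth 100000 in
theorem Hi_eq : mn (dg K K) * Hi = Hi * dg (K ^ 2) 1 := by decide +kernel

/-- swap -/
def Sw : M4 := Matrix.fromBlocks !![.o, .i; .i, .o] 0 0 !![.o, .i; .i, .o]

set_option maxRecDepth 100000 in
theorem Sw_sp : Sw * Matrix.J (Fin 2) F4 * Sw.transpose = Matrix.J (Fin 2) F4 := by decide +kernel

set_option maxRecDepth 100000 in
theorem Sw_eq : Sw * dg 1 K = dg K 1 * Sw := by decide +kernel

/-- swap -/
def sw : G := ⟨Sw, SymplecticGroup.mem_iff.2 Sw_sp⟩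

/-- inverter -/
def Ci : M2 := !![0, 1; 1, 0]
/-- inverter -/
def ci : G := ⟨dg 1 Ci, dg_mem D1_one (by decide)⟩

theorem Ci_eq : Ci * K = K ^ 4 * Ci ∧ Ci * K ^ 2 = K ^ 3 * Ci := by decide +kernel

theorem coe_ya_yb (i j : ℕ) : ((ya ^ i * yb ^ j : G) : M4) = dg (K ^ i) (K ^ j) := by
  rw [Submonoid.coe_mul, coe_pow_dg ya_coe, coe_pow_dg (X := 1) (Y := K) rfl, dg_mul, one_pow, one_pow, mul_one, one_mul]

theorem PP_one : PP (ya * yb) := by
  have hch := charF4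
  left
  let h : G := ⟨Hi, SymplecticGroup.mem_iff.2 Hi_sp⟩
  refine ⟨(graphEquiv F4).trans (MulAut.conj h⁻¹), ?_⟩
  have h1 : graphEquiv F4 (ya * yb) * h = h * ya ^ 2 := by
    apply Subtype.ext
    rw [Submonoid.coe_mul, Submonoid.coe_mul, graphEquiv_apply, graphHom_coe]
    have e1 := coe_ya_yb 1 1
    rw [pow_one, pow_one, pow_one] at e1
    rw [e1, coe_pow_dg ya_coe, one_pow]
    exact Hi_eq
  have h2 : h⁻¹ * graphEquiv F4 (ya * yb) * h = ya ^ 2 := by rw [mul_assoc, h1, inv_mul_cancel_left]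
  rw [MulEquiv.trans_apply, MulAut.conj_apply, inv_inv, h2]
  exact pow_mem (mem_zpowers ya) 2

theorem PP_two : PP (ya * yb ^ 2) := by
  right
  intro x y hx hy
  have e1 := coe_ya_yb 1 2
  rw [pow_one, pow_one] at e1
  obtain ⟨k, l, h1⟩ := comm_E e1 hx
  obtain ⟨k', l', h2⟩ := comm_E e1 hy
  exact comm_dg h1 h2 (pow_mul_comm K _ _) (pow_mul_comm K _ _)

theorem PP_four : PP (ya * yb ^ 4) := by
  have h1 : ya * yb ^ 4 = ci * (ya * yb) * ci⁻¹ := by
    rw [eq_mul_inv_iff_mul_eq]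
    apply Subtype.ext
    have e1 := coe_ya_yb 1 4
    have e2 := coe_ya_yb 1 1
    rw [pow_one, pow_one] at e1
    rw [pow_one, pow_one, pow_one] at e2
    show ((ya * yb ^ 4 : G) : M4) * (ci : M4) = (ci : M4) * ((ya * yb : G) : M4)
    rw [e1, e2]
    show dg K (K ^ 4) * dg 1 Ci = dg 1 Ci * dg K K
    rw [dg_mul, dg_mul, Ci_eq.1, one_mul, mul_one]
  apply PP.conj (g := ci⁻¹)
  rw [h1]
  have : ci⁻¹ * (ci * (ya * yb) * ci⁻¹) * ci⁻¹⁻¹ = ya * yb := by group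
  rw [this]
  exact PP_one

theorem PP_three : PP (ya * yb ^ 3) := by
  have h1 : ya * yb ^ 3 = ci * (ya * yb ^ 2) * ci⁻¹ := by
    rw [eq_mul_inv_iff_mul_eq]
    apply Subtype.ext
    have e1 := coe_ya_yb 1 3
    have e2 := coe_ya_yb 1 2
    rw [pow_one, pow_one] at e1 e2
    show ((ya * yb ^ 3 : G) : M4) * (ci : M4) = (ci : M4) * ((ya * yb ^ 2 : G) : M4)
    rw [e1, e2]
    show dg K (K ^ 3) * dg 1 Ci = dg 1 Ci * dg K (K ^ 2)
    rw [dg_mul, dg_mul, Ci_eq.2, one_mul, mul_one]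
  apply PP.conj (g := ci⁻¹)
  rw [h1]
  have : ci⁻¹ * (ci * (ya * yb ^ 2) * ci⁻¹) * ci⁻¹⁻¹ = ya * yb ^ 2 := by group
  rw [this]
  exact PP_two

theorem order_e (m : ℕ) : orderOf (ya * yb ^ m) = 5 := by
  have e1 := coe_ya_yb 1 m
  rw [pow_one, pow_one] at e1
  refine order_dg e1 (by norm_num) K_pow.1 ?_ ?_
  · rw [← pow_mul, mul_comm, pow_mul, K_pow.1, one_pow]
  · rw [← dg_one]
    exact fun h => K_pow.2 (dg_inj h).1

theorem PP_e (m : ℕ) (hm : m < 5) : PP (ya * yb ^ m) := by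
  interval_cases m
  · rw [pow_zero, mul_one]
    exact Or.inl ⟨MulEquiv.refl _, mem_zpowers ya⟩
  · rw [pow_one]; exact PP_one
  · exact PP_two
  · exact PP_three
  · exact PP_four

theorem PP_P0 (i j : ℕ) (hi : i < 5) (hj : j < 5) (hne : i ≠ 0 ∨ j ≠ 0) : PP (ya ^ i * yb ^ j) := by
  by_cases h0 : i = 0
  · subst h0
    rw [pow_zero, one_mul]
    have hj0 : j ≠ 0 := hne.resolve_left (fun h => h rfl)
    have h1 : sw * yb ^ j * sw⁻¹ = ya ^ j := by
      have h2 : sw * yb * sw⁻¹ = ya := by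
        rw [mul_inv_eq_iff_eq_mul]
        apply Subtype.ext
        rw [Submonoid.coe_mul, Submonoid.coe_mul, ya_coe]
        exact Sw_eq
      rw [← conj_pow, h2]
    apply PP.conj (g := sw)
    rw [h1]
    exact Or.inl ⟨MulEquiv.refl _, pow_mem (mem_zpowers ya) j⟩
  · have key : ∀ i j : Fin 5, (i : ℕ) ≠ 0 → ∃ m : Fin 5, (m * i : ℕ) % 5 = j := by decide
    obtain ⟨m, hm⟩ := key ⟨i, hi⟩ ⟨j, hj⟩ h0
    have h1 : ya ^ i * yb ^ j = (ya * yb ^ (m : ℕ)) ^ i := by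
      apply Subtype.ext
      have e1 := coe_ya_yb 1 m
      rw [pow_one, pow_one] at e1
      rw [coe_ya_yb, coe_pow_dg e1, ← pow_mul]
      congr 1
      have h2 : ∀ n : ℕ, K ^ n = K ^ (n % 5) := fun n => by
        conv_lhs => rw [← Nat.div_add_mod n 5, pow_add, pow_mul, K_pow.1, one_pow, one_mul]
      rw [h2 ((m : ℕ) * i), hm]
    rw [h1]
    refine (PP_e m m.2).pow (order_e m) ?_
    intro h2
    have := Nat.le_of_dvd (by omega) h2
    omega

/-- the Sylow 5-subgroup -/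
theorem exists_P0 (hG : Nat.card G = 979200) : ∃ P : Sylow 5 G, ya ∈ P ∧ yb ∈ P ∧
    ∀ z ∈ P, ∃ i j : ℕ, i < 5 ∧ j < 5 ∧ z = ya ^ i * yb ^ j := by
  have hfin : Finite G := Nat.finite_of_card_ne_zero (by rw [hG]; norm_num)
  have hp : Fact (Nat.Prime 5) := ⟨by norm_num⟩
  obtain ⟨P, h1, h2, h3, h4, -⟩ := exists_sq hp.out order_ya order_yb comm_yab
    (not_mem_zpowers_dg (X := K) (Y := K) ya_coe rfl K_pow.2 (orderOf_pos_iff.1 (by rw [order_ya]; norm_num)))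
  have hcard : Nat.card P = 5 ^ (Nat.card G).factorization 5 := by
    rw [h1, hG, show (979200 : ℕ) = 5 ^ 2 * 39168 by norm_num, Nat.factorization_mul (by norm_num) (by norm_num),
      Finsupp.add_apply, Nat.Prime.factorization_pow hp.out, Finsupp.single_eq_same,
      Nat.factorization_eq_zero_of_not_dvd (by norm_num)]
  exact ⟨Sylow.ofCard P hcard, h2, h3, h4⟩

/-- **all elements of order 5** -/
theorem PP_all (hG : Nat.card G = 979200) {d : G} (hd : orderOf d = 5) : PP d := by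
  have hfin : Finite G := Nat.finite_of_card_ne_zero (by rw [hG]; norm_num)
  have hp : Fact (Nat.Prime 5) := ⟨by norm_num⟩
  obtain ⟨P, h1, h2, h3⟩ := exists_P0 hG
  have h4 : IsPGroup 5 (zpowers d) := IsPGroup.of_card (n := 1) (by rw [Nat.card_zpowers, hd, pow_one])
  obtain ⟨Q, hQ⟩ := h4.exists_le_sylow
  obtain ⟨g, hg⟩ := MulAction.exists_smul_eq G Q P
  have h5 : g * d * g⁻¹ ∈ P := by
    rw [← hg]
    show g * d * g⁻¹ ∈ ((g • Q : Sylow 5 G) : Subgroup G)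
    rw [Sylow.smul_def, Sylow.pointwise_smul_def]
    exact Subgroup.mem_map_of_mem (MulAut.conj g).toMonoidHom (hQ (mem_zpowers d))
  obtain ⟨i, j, hi, hj, h6⟩ := h3 _ h5
  apply PP.conj (g := g)
  rw [h6]
  refine PP_P0 i j hi hj ?_
  by_contra hcon
  push Not at hcon
  rw [hcon.1, hcon.2, pow_zero, pow_zero, mul_one] at h6
  rw [mul_inv_eq_iff_eq_mul, one_mul, mul_eq_left] at h6
  rw [h6, orderOf_one] at hd
  norm_num at hd

end Cfsg.Agent.H916.Der.Four
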