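import Cfsg.Agent.H916.Der.FourSylB
import Cfsg.Agent.H547.Der.Gen

/-!
# `Sp₄(4)`: Sylow arguments III (helper916, for S3502)
-/

set_option autoImplicit false

namespace Cfsg.Agent.H916.Der.Four

open Subgroup Cfsg Cfsg.Agent.Lib.FieldFour Cfsg.Agent.H547.Der.Four Cfsg.Agent.ClassicalGeometry.SympBasic
  Cfsg.Agent.ClassicalGeometry.Sp4Graph

/-- `SL₂(4)` -/
abbrev SL := Matrix.SpecialLinearGroup (Fin 2) F4

theorem det_iff (A : M2) : A.det = 1 ↔ D1 A := by
  have := charF4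
  rw [Matrix.det_fin_two, sub_eq_add_neg, CharTwo.neg_eq]
  rfl

/-- `SL₂(4)` on `B` -/
def iB : SL →* G where
  toFun A := ⟨dg 1 A.1, dg_mem D1_one ((det_iff _).1 A.2)⟩
  map_one' := Subtype.ext dg_one
  map_mul' A B := Subtype.ext (by
    show dg 1 (A.1 * B.1) = dg 1 A.1 * dg 1 B.1
    rw [dg_mul, one_mul])

theorem iB_inj : Function.Injective iB := by
  intro A B h
  exact Subtype.ext (dg_inj (congrArg Subtype.val h)).2

theorem card_SL : Nat.card SL = 60 := by
  let e : SL ≃ {x : F4 × F4 × F4 × F4 // x.1 * x.2.2.2 + x.2.1 * x.2.2.1 = 1} :=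
    { toFun A := ⟨(A.1 0 0, A.1 0 1, A.1 1 0, A.1 1 1), (det_iff _).1 A.2⟩
      invFun x := ⟨!![x.1.1, x.1.2.1; x.1.2.2.1, x.1.2.2.2], (det_iff _).2 x.2⟩
      left_inv A := Subtype.ext (M2_eta A.1).symm
      right_inv x := rfl }
  rw [Nat.card_congr e, Nat.card_eq_fintype_card]
  decide +kernel

theorem sq_mem_gen {S : Type*} [Group S] (hS : Nat.card S = 60) {X : Subgroup S} {x y : S} (hx : orderOf x = 5)
    (hy : orderOf y = 5) (hne : y ∉ zpowers x) (hxX : x ∈ X) (hyX : y ∈ X) (s : S) : s ^ 2 ∈ X := by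
  have hfin : Finite S := Nat.finite_of_card_ne_zero (by rw [hS]; norm_num)
  have hp : Fact (Nat.Prime 5) := ⟨by norm_num⟩
  have hXd : Nat.card X ∣ 60 := hS ▸ Subgroup.card_subgroup_dvd_card X
  have h5 : 5 ∣ Nat.card X := by
    have h1 := Subgroup.card_dvd_of_le (zpowers_le.2 hxX)
    rwa [Nat.card_zpowers, hx] at h1
  have hfac : (Nat.card X).factorization 5 = 1 := by
    have h1 : 1 ≤ (Nat.card X).factorization 5 := (hp.out.dvd_iff_one_le_factorization (Nat.card_pos).ne').1 h5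
    have h2 : ¬ 2 ≤ (Nat.card X).factorization 5 := fun h => by
      have h3 := (hp.out.pow_dvd_iff_le_factorization (Nat.card_pos).ne').2 h
      have h4 := h3.trans hXd
      norm_num at h4
    omega
  have hsyl : ∀ {z : S} (hz : z ∈ X), orderOf z = 5 → Nat.card (zpowers (⟨z, hz⟩ : X)) = 5 ^ (Nat.card X).factorization 5 := by
    intro z hz h1
    rw [Nat.card_zpowers, hfac, pow_one, ← h1]
    exact Subgroup.orderOf_mk z hz
  let P1 : Sylow 5 X := Sylow.ofCard _ (hsyl hxX hx)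
  let P2 : Sylow 5 X := Sylow.ofCard _ (hsyl hyX hy)
  have hn1 : Nat.card (Sylow 5 X) ≠ 1 := by
    intro h1
    obtain ⟨h2, -⟩ := Nat.card_eq_one_iff_unique.1 h1
    have h3 : P2 = P1 := Subsingleton.elim _ _
    have h4 : (⟨y, hyX⟩ : X) ∈ (P1 : Subgroup X) := by
      rw [← h3]
      exact mem_zpowers _
    have h5 : (⟨y, hyX⟩ : X) ∈ zpowers (⟨x, hxX⟩ : X) := h4
    obtain ⟨n, hn⟩ := mem_zpowers_iff.1 h5
    exact hne (mem_zpowers_iff.2 ⟨n, congrArg Subtype.val hn⟩)
  have hmod := card_sylow_modEq_one 5 X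
  have hdvd := P1.card_dvd_index
  have hP1 : Nat.card (P1 : Subgroup X) = 5 := by
    rw [P1.card_eq_multiplicity, hfac, pow_one]
  have hmul : Nat.card (P1 : Subgroup X) * (P1 : Subgroup X).index = Nat.card X := Subgroup.card_mul_index _
  rw [hP1] at hmul
  have h12 : (P1 : Subgroup X).index ∣ 12 := by
    have h1 : 5 * (P1 : Subgroup X).index ∣ 5 * 12 := by rw [hmul]; exact hXd
    exact Nat.dvd_of_mul_dvd_mul_left (by norm_num) h1
  have h6 : Nat.card (Sylow 5 X) = 6 := by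
    have h1 := hdvd.trans h12
    have h2 : ∀ n : ℕ, n < 13 → n ∣ 12 → n % 5 = 1 → n ≠ 1 → n = 6 := by decide
    exact h2 _ (Nat.lt_succ_of_le (Nat.le_of_dvd (by norm_num) h1)) h1 (by simpa [Nat.ModEq] using hmod) hn1
  have h30 : 30 ∣ Nat.card X := by
    rw [← hmul]
    rw [h6] at hdvd
    exact Nat.mul_dvd_mul_left 5 hdvd
  have hidx : X.index = 1 ∨ X.index = 2 := by
    have h1 : X.index * Nat.card X = 60 := by rw [← hS]; exact X.index_mul_card
    obtain ⟨k, hk⟩ := h30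
    rw [hk] at h1
    have h2 : X.index * k = 2 := by
      have : 30 * (X.index * k) = 30 * 2 := by rw [← mul_assoc, mul_comm 30, mul_assoc, h1]
      exact Nat.eq_of_mul_eq_mul_left (by norm_num) this
    have h3 : X.index ∣ 2 := ⟨k, h2.symm⟩
    exact (Nat.dvd_prime Nat.prime_two).1 h3
  rcases hidx with h | h
  · rw [Subgroup.index_eq_one.1 h]
    exact Subgroup.mem_top _
  · exact Subgroup.sq_mem_of_index_two h s

theorem U_sq (c : F4) : (!![.v, .o; .o, .w] : M2) ^ 2 * (U (.v * c) * !![.w, .o; .o, .v] * U (.v * c)) ^ 2 = U c := by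
  revert c
  decide +kernel

theorem L_sq (c : F4) : (!![.w, .o; .o, .v] : M2) ^ 2 * (L (.v * c) * !![.v, .o; .o, .w] * L (.v * c)) ^ 2 = L c := by
  revert c
  decide +kernel

/-- an element of `SL₂(4)` -/
def toSL (X : M2) (h : D1 X) : SL := ⟨X, (det_iff X).2 h⟩

theorem coe_iB (X : M2) (h : D1 X) : ((iB (toSL X h) : G) : M4) = dg 1 X := rfl

theorem coe_sq {X Y : M2} (hX : D1 X) (hY : D1 Y) :
    ((iB (toSL X hX ^ 2 * toSL Y hY ^ 2) : G) : M4) = dg 1 (X ^ 2 * Y ^ 2) := by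
  rw [map_mul, map_pow, map_pow, Submonoid.coe_mul, coe_pow_dg (coe_iB X hX), coe_pow_dg (coe_iB Y hY), dg_mul, one_pow,
    one_mul]

theorem tr_of_sq {H : Subgroup G} (h : ∀ s : SL, s ^ 2 ∈ H.comap iB) : ∀ q s, Tr H (bl 0 q 0 s) := by
  have key : ∀ {X Y : M2} (_ : D1 X) (_ : D1 Y) (t : G), (t : M4) = dg 1 (X ^ 2 * Y ^ 2) → t ∈ H := by
    intro X Y hX hY t ht
    have h1 : iB (toSL X hX ^ 2 * toSL Y hY ^ 2) ∈ H := (H.comap iB).mul_mem (h _) (h _)
    have h2 : t = iB (toSL X hX ^ 2 * toSL Y hY ^ 2) := Subtype.ext (by rw [ht, coe_sq])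
    rwa [h2]
  have d1 : D1 !![.v, .o; .o, .w] := by decide
  have d2 : D1 !![.w, .o; .o, .v] := by decide
  have d3 : ∀ c : F4, D1 (U (.v * c) * !![.w, .o; .o, .v] * U (.v * c)) := by decide +kernel
  have d4 : ∀ c : F4, D1 (L (.v * c) * !![.v, .o; .o, .w] * L (.v * c)) := by decide +kernel
  refine tr_B (fun c => ?_) (fun c => ?_)
  · refine key d1 (d3 c) _ ?_
    rw [transv_e1, U_sq]
  · refine key d2 (d4 c) _ ?_
    rw [transv_e2, L_sq]

theorem comm_of_card {Q : Subgroup G} (h : Nat.card Q = 25) {x y : G} (hx : x ∈ Q) (hy : y ∈ Q) : Commute x y := by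
  have hp : Fact (Nat.Prime 5) := ⟨by norm_num⟩
  have h1 := IsPGroup.commutative_of_card_eq_prime_sq (p := 5) (G := Q) (by rw [h]; norm_num) ⟨x, hx⟩ ⟨y, hy⟩
  exact congrArg Subtype.val h1

/-- two subgroups of order 25 containing `ya` -/
theorem two_syl {H Q1 Q2 : Subgroup G} (h1 : Q1 ≤ H) (h2 : Q2 ≤ H) (c1 : Nat.card Q1 = 25) (c2 : Nat.card Q2 = 25)
    (hne : Q1 ≠ Q2) (a1 : ya ∈ Q1) (a2 : ya ∈ Q2) : ∀ q s, Tr H (bl 0 q 0 s) := by
  have key : ∀ {Q Q' : Subgroup G}, Q ≤ H → Nat.card Q = 25 → Nat.card Q' = 25 → Q ≠ Q' → ya ∈ Q → ya ∈ Q' →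
      ∃ s : SL, iB s ∈ Q ∧ iB s ∉ Q' ∧ orderOf s = 5 := by
    intro Q Q' hQH c c' hne a a'
    have hfin : Finite Q' := Nat.finite_of_card_ne_zero (by rw [c']; norm_num)
    have h3 : ∃ z ∈ Q, z ∉ Q' := by
      by_contra hcon
      push Not at hcon
      exact hne (Subgroup.eq_of_le_of_card_ge hcon (by rw [c, c']))
    obtain ⟨z, hz, hz'⟩ := h3
    obtain ⟨k, Y, hY, h4⟩ := comm_ya (comm_of_card c hz a)
    have h5 : z = ya ^ (k : ℕ) * iB (toSL Y hY) := by
      apply Subtype.ext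
      rw [Submonoid.coe_mul, coe_pow_dg ya_coe, h4, coe_iB, dg_mul, one_pow, one_mul, mul_one]
    have h6 : iB (toSL Y hY) = (ya ^ (k : ℕ))⁻¹ * z := by rw [h5, inv_mul_cancel_left]
    have h7 : iB (toSL Y hY) ∈ Q := by rw [h6]; exact Q.mul_mem (Q.inv_mem (Q.pow_mem a _)) hz
    have h8 : iB (toSL Y hY) ∉ Q' := fun h => hz' (by
      rw [h5]; exact Q'.mul_mem (Q'.pow_mem a' _) h)
    refine ⟨_, h7, h8, ?_⟩
    generalize toSL Y hY = s at h7 h8
    have h9 : orderOf s ∣ 25 := by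
      rw [← orderOf_injective iB iB_inj, ← c]
      exact Subgroup.orderOf_dvd_natCard _ h7
    have h10 : orderOf s ∣ 60 := by
      rw [← card_SL]
      exact orderOf_dvd_natCard s
    have h11 : orderOf s ∣ 5 := by
      have := Nat.dvd_gcd h9 h10
      norm_num at this
      exact this
    rcases (Nat.dvd_prime (by norm_num)).1 h11 with h | h
    · exfalso
      apply h8
      rw [orderOf_eq_one_iff.1 h, map_one]
      exact Q'.one_mem
    · exact h
  obtain ⟨s1, m1, n1, o1⟩ := key h1 c1 c2 hne a1 a2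
  obtain ⟨s2, m2, n2, o2⟩ := key h2 c2 c1 hne.symm a2 a1
  refine tr_of_sq (sq_mem_gen card_SL (x := s1) (y := s2) o1 o2 ?_ (h1 m1) (h2 m2))
  intro h
  apply n2
  have h3 : iB s2 ∈ (zpowers s1).map iB := Subgroup.mem_map_of_mem iB h
  rw [MonoidHom.map_zpowers] at h3
  exact zpowers_le.2 m1 h3

theorem not_isCoatom_map {H : Subgroup G} (φ : G ≃* G) (h : ¬ IsCoatom H) : ¬ IsCoatom (H.map φ.toMonoidHom) := by
  intro h1
  apply h
  refine ⟨fun h2 => h1.1 ?_, fun M hM => ?_⟩
  · rw [h2]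
    exact Subgroup.map_top_of_surjective _ φ.surjective
  · have h3 : H.map φ.toMonoidHom < M.map φ.toMonoidHom :=
      Subgroup.map_lt_map_iff_of_injective (f := φ.toMonoidHom) φ.injective |>.2 hM
    have h4 := h1.2 _ h3
    rw [eq_top_iff]
    intro x _
    have h5 : φ x ∈ M.map φ.toMonoidHom := by rw [h4]; exact Subgroup.mem_top _
    obtain ⟨y, hy, h6⟩ := h5
    rwa [← φ.injective h6]

/-- **no elements of order four in a non-maximal proper subgroup with two Sylow 5-subgroups meeting nontrivially** -/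
theorem main_syl (hG : Nat.card G = 979200) {H : Subgroup G} (hT : H ≠ ⊤) (hc : ¬ IsCoatom H) (h25 : 25 ∣ Nat.card H)
    (hn : ¬ Nat.card (Sylow 5 H) ≡ 1 [MOD 5 ^ 2]) : ∀ t ∈ H, orderOf t ≠ 4 := by
  have hfin : Finite G := Nat.finite_of_card_ne_zero (by rw [hG]; norm_num)
  have hp : Fact (Nat.Prime 5) := ⟨by norm_num⟩
  have hHd : Nat.card H ∣ 979200 := hG ▸ Subgroup.card_subgroup_dvd_card H
  have hfac : (Nat.card H).factorization 5 = 2 := by
    have h1 : 2 ≤ (Nat.card H).factorization 5 := (hp.out.pow_dvd_iff_le_factorization (Nat.card_pos).ne').1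
      (by norm_num; exact h25)
    have h2 : ¬ 3 ≤ (Nat.card H).factorization 5 := fun h => by
      have h3 := (hp.out.pow_dvd_iff_le_factorization (Nat.card_pos).ne').2 h
      have h4 := h3.trans hHd
      norm_num at h4
    omega
  obtain ⟨P, R, hPR, hidx⟩ := Cfsg.Agent.S0985.result 5 2 hn
  have hcP : ∀ P : Sylow 5 H, Nat.card (P : Subgroup H) = 25 := fun P => by
    rw [P.card_eq_multiplicity, hfac]
    norm_num
  have hd : ∃ d : H, d ∈ (P : Subgroup H) ∧ d ∈ (R : Subgroup H) ∧ orderOf d = 5 := by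
    have h1 : Nat.card ((R : Subgroup H).subgroupOf (P : Subgroup H)) *
        ((R : Subgroup H).subgroupOf (P : Subgroup H)).index = 25 := by
      rw [Subgroup.card_mul_index, hcP]
    have h2 : 5 ∣ Nat.card ((R : Subgroup H).subgroupOf (P : Subgroup H)) := by
      have h3 : Nat.card ((R : Subgroup H).subgroupOf (P : Subgroup H)) ∣ 5 ^ 2 := ⟨_, by rw [h1]; norm_num⟩
      obtain ⟨k, hk, h4⟩ := (Nat.dvd_prime_pow hp.out).1 h3
      rcases Nat.eq_zero_or_pos k with h5 | h5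
      · subst h5
        rw [h4, pow_zero, one_mul] at h1
        norm_num at hidx
        omega
      · rw [h4]
        exact dvd_pow_self 5 (by omega)
    obtain ⟨⟨⟨d, hdP⟩, hdR⟩, hd⟩ := exists_prime_orderOf_dvd_card' 5 h2
    refine ⟨d, hdP, hdR, ?_⟩
    have e1 := Subgroup.orderOf_coe (⟨d, hdP⟩ : (P : Subgroup H))
    have e2 := Subgroup.orderOf_coe (⟨⟨d, hdP⟩, hdR⟩ : ((R : Subgroup H).subgroupOf (P : Subgroup H)))
    exact e1.trans (e2.trans hd)
  obtain ⟨d, hdP, hdR, hd5⟩ := hd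
  have hcG : ∀ P : Sylow 5 H, Nat.card ((P : Subgroup H).map H.subtype) = 25 := fun P => by
    rw [Nat.card_congr (Subgroup.equivMapOfInjective _ H.subtype H.subtype_injective).toEquiv.symm, hcP]
  have hd5' : orderOf (d : G) = 5 := by rw [Subgroup.orderOf_coe, hd5]
  rcases PP_all hG hd5' with ⟨φ, hφ⟩ | hab
  · -- up to automorphisms in `⟨ya⟩`
    have h1 : ya ∈ zpowers (φ (d : G)) := by
      have h2 : zpowers (φ (d : G)) = zpowers ya := by
        refine Subgroup.eq_of_le_of_card_ge (zpowers_le.2 hφ) ?_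
        rw [Nat.card_zpowers, Nat.card_zpowers, MulEquiv.orderOf_eq, hd5', order_ya]
      rw [h2]
      exact mem_zpowers ya
    have key : ∀ P : Sylow 5 H, d ∈ (P : Subgroup H) → ya ∈ ((P : Subgroup H).map H.subtype).map φ.toMonoidHom := by
      intro P hdP
      refine zpowers_le.2 ?_ h1
      exact Subgroup.mem_map_of_mem φ.toMonoidHom (Subgroup.mem_map_of_mem H.subtype hdP)
    have hle : ∀ P : Sylow 5 H, ((P : Subgroup H).map H.subtype).map φ.toMonoidHom ≤ H.map φ.toMonoidHom := by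
      intro P
      refine Subgroup.map_mono ?_
      rintro _ ⟨x, -, rfl⟩
      exact x.2
    have hcard : ∀ P : Sylow 5 H, Nat.card (((P : Subgroup H).map H.subtype).map φ.toMonoidHom) = 25 := fun P => by
      rw [Nat.card_congr (Subgroup.equivMapOfInjective _ φ.toMonoidHom φ.injective).toEquiv.symm, hcG]
    have hB := two_syl (hle P) (hle R) (hcard P) (hcard R) (fun h => by
      apply hPR
      have h2 := Subgroup.map_injective φ.injective h
      exact Sylow.ext (Subgroup.map_injective H.subtype_injective h2)) (key P hdP) (key R hdR)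
    intro t ht h4
    refine no_four (H := H.map φ.toMonoidHom) ?_ (not_isCoatom_map φ hc) (hle P (key P hdP)) hB (φ t)
      (Subgroup.mem_map_of_mem φ.toMonoidHom ht) (by rw [MulEquiv.orderOf_eq, h4])
    intro h2
    apply hT
    rw [eq_top_iff]
    intro x _
    have h3 : φ x ∈ H.map φ.toMonoidHom := by rw [h2]; exact Subgroup.mem_top _
    obtain ⟨y, hy, h5⟩ := h3
    rwa [← φ.injective h5]
  · exfalso
    apply hPR
    have h1 : ∀ x ∈ (R : Subgroup H), ∀ y ∈ (P : Subgroup H), x * y = y * x := by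
      intro x hx y hy
      have h2 := hab x y (comm_of_card (hcG R) (Subgroup.mem_map_of_mem H.subtype hx)
        (Subgroup.mem_map_of_mem H.subtype hdR)) (comm_of_card (hcG P) (Subgroup.mem_map_of_mem H.subtype hy)
        (Subgroup.mem_map_of_mem H.subtype hdP))
      exact Subtype.ext h2.eq
    have h2 : (R : Subgroup H) ≤ normalizer ((P : Subgroup H) : Set H) := by
      intro x hx
      rw [Subgroup.mem_normalizer_iff]
      intro y
      constructor
      · intro hy
        rwa [h1 x hx y hy, mul_inv_cancel_right]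
      · intro hy
        have h3 := h1 x hx _ hy
        have h4 : y = x * y * x⁻¹ := by
          have h5 : x * (x * y * x⁻¹) * x⁻¹ = x * y * x⁻¹ := by rw [h3, mul_inv_cancel_right]
          have h6 := mul_right_cancel h5
          exact (mul_left_cancel h6).symm
        rwa [h4]
    have h3 : (R : Subgroup H) ≤ P := by
      have h4 := (R.isPGroup').inf_normalizer_sylow P
      have h5 : (R : Subgroup H) ≤ (R : Subgroup H) ⊓ (P : Subgroup H) := by
        rw [← h4]
        exact le_inf le_rfl h2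
      exact h5.trans inf_le_right
    exact (Sylow.ext (Subgroup.eq_of_le_of_card_ge h3 (by rw [hcP, hcP]))).symm

theorem trace_conj (g x : G) : ((g * x * g⁻¹ : G) : M4).trace = (x : M4).trace := by
  rw [Submonoid.coe_mul, Matrix.trace_mul_comm, ← Submonoid.coe_mul, inv_mul_cancel_left]

theorem trace_P0 (i j : ℕ) (hi : i < 5) (hj : j < 5) (h : ((ya ^ i * yb ^ j : G) : M4).trace = .w) :
    (i = 1 ∧ j = 0) ∨ (i = 4 ∧ j = 0) ∨ (i = 0 ∧ j = 1) ∨ (i = 0 ∧ j = 4) := by
  rw [coe_ya_yb] at h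
  have key : ∀ i j : Fin 5, (dg (K ^ (i : ℕ)) (K ^ (j : ℕ))).trace = .w →
    ((i : ℕ) = 1 ∧ (j : ℕ) = 0) ∨ ((i : ℕ) = 4 ∧ (j : ℕ) = 0) ∨ ((i : ℕ) = 0 ∧ (j : ℕ) = 1) ∨
      ((i : ℕ) = 0 ∧ (j : ℕ) = 4) := by decide +kernel
  exact key ⟨i, hi⟩ ⟨j, hj⟩ h

/-- an element of order 3 does not normalize the Sylow 5-subgroup -/
theorem not_norm {P : Subgroup G} (ha : ya ∈ P) (hb : yb ∈ P)
    (hP : ∀ z ∈ P, ∃ i j : ℕ, i < 5 ∧ j < 5 ∧ z = ya ^ i * yb ^ j) {t : G} (ht : orderOf t = 3)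
    (hn : ∀ x ∈ P, t * x * t⁻¹ ∈ P) : False := by
  have ea : ((ya : G) : M4).trace = .w := by rw [ya_coe]; decide +kernel
  have eb : ((yb : G) : M4).trace = .w := by show (dg 1 K).trace = _; decide +kernel
  have p5a : ya ^ 4 = ya⁻¹ := by
    have h1 := pow_orderOf_eq_one ya
    rw [order_ya] at h1
    rw [eq_inv_iff_mul_eq_one, ← pow_succ]
    exact h1
  have p5b : yb ^ 4 = yb⁻¹ := by
    have h1 := pow_orderOf_eq_one yb
    rw [order_yb] at h1
    rw [eq_inv_iff_mul_eq_one, ← pow_succ]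
    exact h1
  have key : ∀ x ∈ P, (x : M4).trace = .w → t * x * t⁻¹ = ya ∨ t * x * t⁻¹ = ya⁻¹ ∨ t * x * t⁻¹ = yb ∨ t * x * t⁻¹ = yb⁻¹ := by
    intro x hx hw
    obtain ⟨i, j, hi, hj, h1⟩ := hP _ (hn x hx)
    have h2 : ((ya ^ i * yb ^ j : G) : M4).trace = .w := by rw [← h1, trace_conj, hw]
    rcases trace_P0 i j hi hj h2 with ⟨rfl, rfl⟩ | ⟨rfl, rfl⟩ | ⟨rfl, rfl⟩ | ⟨rfl, rfl⟩
    · left; rw [h1, pow_one, pow_zero, mul_one]
    · right; left; rw [h1, p5a, pow_zero, mul_one]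
    · right; right; left; rw [h1, pow_one, pow_zero, one_mul]
    · right; right; right; rw [h1, p5b, pow_zero, one_mul]
  have hab : ya ≠ yb := by
    intro h
    have := congrArg (fun x : G => (x : M4)) h
    simp only [ya_coe] at this
    exact K_pow.2 (dg_inj (this : dg K 1 = dg 1 K)).1
  have hab' : ya ≠ yb⁻¹ := by
    intro h
    rw [← p5b] at h
    have := congrArg (fun x : G => (x : M4)) h
    simp only [ya_coe, coe_pow_dg (X := 1) (Y := K) (t := yb) rfl, one_pow] at this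
    exact K_pow.2 (dg_inj this).1
  have hab'' : ya⁻¹ ≠ yb := fun h => hab' (by rw [← h, inv_inv])
  have haa : ya⁻¹ ≠ ya := by
    intro h
    have h1 : ya ^ 2 = 1 := by rw [pow_two]; nth_rewrite 1 [← h]; exact inv_mul_cancel ya
    have h2 := orderOf_dvd_of_pow_eq_one h1
    rw [order_ya] at h2
    norm_num at h2
  have hbb : yb⁻¹ ≠ yb := by
    intro h
    have h1 : yb ^ 2 = 1 := by rw [pow_two]; nth_rewrite 1 [← h]; exact inv_mul_cancel yb
    have h2 := orderOf_dvd_of_pow_eq_one h1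
    rw [order_yb] at h2
    norm_num at h2
  have h3 : ∀ x : G, t * (t * (t * x * t⁻¹) * t⁻¹) * t⁻¹ = x := by
    intro x
    have h4 : t * (t * (t * x * t⁻¹) * t⁻¹) * t⁻¹ = t ^ 3 * x * (t ^ 3)⁻¹ := by
      simp only [pow_succ, pow_zero, one_mul, mul_inv_rev, mul_assoc]
    have h5 : t ^ 3 = 1 := by rw [← ht, pow_orderOf_eq_one]
    rw [h4, h5]
    group
  have hinv : ∀ x : G, t * x⁻¹ * t⁻¹ = (t * x * t⁻¹)⁻¹ := fun x => by group
  have hinj : ∀ {x y : G}, t * x * t⁻¹ = t * y * t⁻¹ → x = y := fun h => mul_left_cancel (mul_right_cancel h)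
  -- the two conjugation equations
  have hfa : t * ya * t⁻¹ = ya := by
    rcases key ya ha ea with h | h | h | h
    · exact h
    · exfalso
      have h4 := h3 ya
      rw [h, hinv, h, inv_inv, h] at h4
      exact haa h4
    · exfalso
      have h4 := h3 ya
      rw [h] at h4
      rcases key yb hb eb with h5 | h5 | h5 | h5
      · rw [h5, h] at h4
        exact hab h4.symm
      · rw [h5, hinv, h] at h4
        exact hab' h4.symm
      · exact hab (hinj (h.trans h5.symm))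
      · apply hab'
        apply hinj
        rw [h, hinv, h5, inv_inv]
    · exfalso
      have h4 := h3 ya
      rw [h] at h4
      rcases key yb hb eb with h5 | h5 | h5 | h5
      · rw [hinv, h5, hinv, h, inv_inv] at h4
        exact hab h4.symm
      · rw [hinv, h5, inv_inv, h] at h4
        exact hab' h4.symm
      · apply hab'
        apply hinj
        rw [h, hinv, h5]
      · exact hab (hinj (h.trans h5.symm))
  have hfb : t * yb * t⁻¹ = yb := by
    rcases key yb hb eb with h | h | h | h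
    · exact absurd (hinj (hfa.trans h.symm)) hab
    · exfalso
      apply hab''
      apply hinj
      rw [hinv, hfa, h]
    · exact h
    · exfalso
      have h4 := h3 yb
      rw [h, hinv, h, inv_inv, h] at h4
      exact hbb h4
  have c1 : Commute t ya := by
    rw [mul_inv_eq_iff_eq_mul] at hfa
    exact hfa
  have c2 : Commute t yb := by
    rw [mul_inv_eq_iff_eq_mul] at hfb
    exact hfb
  obtain ⟨k, l, h5⟩ := comm_yab' c1 c2
  have h6 : t ^ 5 = 1 := by
    apply Subtype.ext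
    rw [coe_pow_dg h5, ← pow_mul, ← pow_mul, mul_comm, pow_mul, K_pow.1, one_pow, mul_comm, pow_mul, K_pow.1, one_pow,
      dg_one]
    rfl
  have h7 := orderOf_dvd_of_pow_eq_one h6
  rw [ht] at h7
  norm_num at h7

theorem num_syl (m n : ℕ) (h1 : 25 * n ∣ m) (h2 : m ∣ 57600) (h3 : m ≤ 11520) (h4 : 3 ∣ n) (h5 : n % 25 = 1) : False := by
  have h6 : 25 * n ∣ 25 * 2304 := h1.trans h2
  have h7 : n ∣ 2304 := Nat.dvd_of_mul_dvd_mul_left (by norm_num) h6
  have hm : 0 < m := Nat.pos_of_dvd_of_pos h2 (by norm_num)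
  have h8 : 25 * n ≤ 11520 := (Nat.le_of_dvd hm h1).trans h3
  have h9 : n < 461 := by omega
  have key : ∀ n < 461, n ∣ 2304 → 3 ∣ n → n % 25 = 1 → False := by decide +kernel
  exact key n h9 h7 h4 h5

/-- the Sylow 5-subgroups have nontrivial intersections -/
theorem syl_ne (hG : Nat.card G = 979200) {H : Subgroup G} (h25 : 25 ∣ Nat.card H) (h3 : 3 ∣ Nat.card H)
    (hd : Nat.card H ∣ 57600) (hle : Nat.card H ≤ 11520) : ¬ Nat.card (Sylow 5 H) ≡ 1 [MOD 5 ^ 2] := by
  intro hmod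
  have hfin : Finite G := Nat.finite_of_card_ne_zero (by rw [hG]; norm_num)
  have hp : Fact (Nat.Prime 5) := ⟨by norm_num⟩
  have hp3 : Fact (Nat.Prime 3) := ⟨by norm_num⟩
  have hfac : (Nat.card H).factorization 5 = 2 := by
    have h1 : 2 ≤ (Nat.card H).factorization 5 := (hp.out.pow_dvd_iff_le_factorization (Nat.card_pos).ne').1
      (by norm_num; exact h25)
    have h2 : ¬ 3 ≤ (Nat.card H).factorization 5 := fun h => by
      have h3 := (hp.out.pow_dvd_iff_le_factorization (Nat.card_pos).ne').2 h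
      have h4 := h3.trans hd
      norm_num at h4
    omega
  obtain ⟨Q, hQ⟩ : ∃ Q : Sylow 5 H, True := ⟨default, trivial⟩
  have hcQ : Nat.card (Q : Subgroup H) = 25 := by
    rw [Q.card_eq_multiplicity, hfac]
    norm_num
  have hn := Q.card_eq_index_normalizer
  set N := normalizer ((Q : Subgroup H) : Set H) with hN
  have hn' : Nat.card (Sylow 5 H) = N.index := hn
  have hmul : Nat.card N * N.index = Nat.card H := Subgroup.card_mul_index N
  -- `3 ∤ |N|`
  have h3N : ¬ 3 ∣ Nat.card N := by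
    intro h
    obtain ⟨⟨⟨t, htH⟩, htN⟩, ht⟩ := exists_prime_orderOf_dvd_card' 3 h
    have ht3 : orderOf t = 3 := by
      have e1 := Subgroup.orderOf_coe (⟨t, htH⟩ : H)
      have e2 := Subgroup.orderOf_coe (⟨⟨t, htH⟩, htN⟩ : N)
      exact e1.trans (e2.trans ht)
    obtain ⟨P, h1, h2, h4⟩ := exists_P0 hG
    have hcard : Nat.card ((Q : Subgroup H).map H.subtype) = 5 ^ (Nat.card G).factorization 5 := by
      rw [Nat.card_congr (Subgroup.equivMapOfInjective _ H.subtype H.subtype_injective).toEquiv.symm, hcQ, hG,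
        show (979200 : ℕ) = 5 ^ 2 * 39168 by norm_num, Nat.factorization_mul (by norm_num) (by norm_num),
        Finsupp.add_apply, Nat.Prime.factorization_pow hp.out, Finsupp.single_eq_same,
        Nat.factorization_eq_zero_of_not_dvd (by norm_num)]
      norm_num
    obtain ⟨g, hg⟩ := MulAction.exists_smul_eq G (Sylow.ofCard _ hcard) P
    have hmem : ∀ x : G, x ∈ (Q : Subgroup H).map H.subtype ↔ g * x * g⁻¹ ∈ (P : Subgroup G) := by
      intro x
      rw [← hg, Sylow.smul_def, Sylow.pointwise_smul_def]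
      constructor
      · intro hx
        exact Subgroup.mem_map_of_mem (MulAut.conj g).toMonoidHom hx
      · rintro ⟨y, hy, h5⟩
        have h6 : y = x := (MulAut.conj g).injective h5
        rw [← h6]
        exact hy
    refine not_norm h1 h2 h4 (t := g * t * g⁻¹) (by rw [Cfsg.Agent.H439.Der.orderOf_conj, ht3]) ?_
    intro x hx
    have h5 : g⁻¹ * x * g ∈ (Q : Subgroup H).map H.subtype := by
      rw [hmem]
      have : g * (g⁻¹ * x * g) * g⁻¹ = x := by group
      rwa [this]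
    obtain ⟨⟨y, hyH⟩, hyQ, hy⟩ := h5
    have h6 : (⟨t, htH⟩ : H) * ⟨y, hyH⟩ * (⟨t, htH⟩ : H)⁻¹ ∈ (Q : Subgroup H) :=
      (Subgroup.mem_normalizer_iff.1 htN ⟨y, hyH⟩).1 hyQ
    have h7 := (hmem _).1 (Subgroup.mem_map_of_mem H.subtype h6)
    have h8 : g * (H.subtype ((⟨t, htH⟩ : H) * ⟨y, hyH⟩ * (⟨t, htH⟩ : H)⁻¹)) * g⁻¹ = g * t * g⁻¹ * x * (g * t * g⁻¹)⁻¹ := by
      have h9 : y = g⁻¹ * x * g := hy
      show g * (t * y * t⁻¹) * g⁻¹ = _
      rw [h9]
      group
    rwa [h8] at h7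
  have h3i : 3 ∣ N.index := by
    rw [← hmul] at h3
    exact (hp3.out.dvd_mul.1 h3).resolve_left h3N
  have h25N : 25 ∣ Nat.card N := by
    rw [← hcQ]
    exact Subgroup.card_dvd_of_le Subgroup.le_normalizer
  refine num_syl (Nat.card H) N.index ?_ hd hle h3i ?_
  · rw [← hmul]
    exact Nat.mul_dvd_mul_right h25N _
  · rw [hn'] at hmod
    simpa [Nat.ModEq] using hmod

end Cfsg.Agent.H916.Der.Four
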