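import Cfsg.Agent.H547.Der.FourMat
import Cfsg.Agent.ClassicalGeometry.SympBasic
import Cfsg.Agent.ClassicalGeometry.Sp4Graph
import Cfsg.Agent.S0765

/-!
# `Sp₄(4)`: subgroups containing transvections (helper916, for S3502)

`V = A ⊥ B`, `a` of order 5 in `Sp(A)`.
-/

set_option autoImplicit false

namespace Cfsg.Agent.H916.Der.Four

open Subgroup Cfsg Cfsg.Agent.Lib.FieldFour Cfsg.Agent.H547.Der.Four Cfsg.Agent.ClassicalGeometry.SympBasic
  Cfsg.Agent.ClassicalGeometry.Sp4Graph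

/-- the group -/
abbrev G := Matrix.symplecticGroup (Fin 2) F4

theorem charF4 : CharP F4 2 := CharTwo.of_one_ne_zero_of_two_eq_zero (by decide) (by decide)

/-- a vector -/
def bl (p q r s : F4) : V4 := Sum.elim ![p, q] ![r, s]

theorem bl_eta (x : V4) : x = bl (x (.inl 0)) (x (.inl 1)) (x (.inr 0)) (x (.inr 1)) := by
  funext i
  rcases i with i | i <;> fin_cases i <;> rfl

theorem bl_add (p q r s p' q' r' s' : F4) : bl p q r s + bl p' q' r' s' = bl (p + p') (q + q') (r + r') (s + s') := by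
  funext i
  rcases i with i | i <;> fin_cases i <;> rfl

theorem bl_smul (l p q r s : F4) : l • bl p q r s = bl (l * p) (l * q) (l * r) (l * s) := by
  funext i
  rcases i with i | i <;> fin_cases i <;> rfl

theorem bl_inj {p q r s p' q' r' s' : F4} (h : bl p q r s = bl p' q' r' s') : p = p' ∧ q = q' ∧ r = r' ∧ s = s' :=
  ⟨congrFun h (.inl 0), congrFun h (.inl 1), congrFun h (.inr 0), congrFun h (.inr 1)⟩

theorem bl_zero : (0 : V4) = bl 0 0 0 0 := by
  funext i
  rcases i with i | i <;> fin_cases i <;> rfl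

theorem form_bl (p q r s p' q' r' s' : F4) :
    sympForm 2 F4 (bl p q r s) (bl p' q' r' s') = p * r' + r * p' + q * s' + s * q' := by
  have := charF4
  rw [sympForm_eq]
  rfl

/-- all the transvections with centre `x` -/
def Tr (H : Subgroup G) (x : V4) : Prop := ∀ c : F4, transv x c ∈ H

variable {H : Subgroup G}

theorem conj_transv (g : G) (x : V4) (c : F4) : g * transv x c * g⁻¹ = transv ((g : M4).mulVec x) c := by
  rw [mul_inv_eq_iff_eq_mul]
  exact Subtype.ext (mul_sympTransvection g.2 x c)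

theorem Tr.act {x : V4} (h : Tr H x) {g : G} (hg : g ∈ H) : Tr H ((g : M4).mulVec x) := fun c => by
  rw [← conj_transv]
  exact H.mul_mem (H.mul_mem hg (h c)) (H.inv_mem hg)

theorem Tr.smul {x : V4} (h : Tr H x) (l : F4) : Tr H (l • x) := fun c => by
  have h1 : transv (l • x) c = transv x (l ^ 2 * c) := Subtype.ext (sympTransvection_smul x l c)
  rw [h1]
  exact h _

theorem Tr.add {x y : V4} (hx : Tr H x) (hy : Tr H y) (hxy : sympForm 2 F4 x y ≠ 0) (e : F4) : Tr H (x + e • y) := by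
  have h1 := hx.act (hy (e / sympForm 2 F4 x y))
  rwa [coe_transv, sympTransvection_mulVec, div_mul_cancel₀ _ hxy] at h1

theorem tr_zero : Tr H 0 := fun c => by
  have h1 : transv (0 : V4) c = 1 := by
    apply Subtype.ext
    rw [coe_transv, ← Matrix.mulVec_injective.eq_iff]
    funext x
    rw [sympTransvection_mulVec, smul_zero, add_zero]
    exact (Matrix.one_mulVec x).symm
  rw [h1]
  exact H.one_mem

theorem tr_B (h1 : Tr H (bl 0 1 0 0)) (h2 : Tr H (bl 0 0 0 1)) (q s : F4) : Tr H (bl 0 q 0 s) := by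
  by_cases hq : q = 0
  · have h3 := h2.smul s
    rw [bl_smul] at h3
    simpa [hq] using h3
  · have h3 := (h1.add h2 (by rw [form_bl]; decide) (s / q)).smul q
    rw [bl_smul, bl_add, bl_smul] at h3
    have h4 : q * (s / q) = s := mul_div_cancel₀ s hq
    simpa [h4] using h3

theorem tr_A (h1 : Tr H (bl 1 0 0 0)) (h2 : Tr H (bl 0 0 1 0)) (q s : F4) : Tr H (bl q 0 s 0) := by
  by_cases hq : q = 0
  · have h3 := h2.smul s
    rw [bl_smul] at h3
    simpa [hq] using h3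
  · have h3 := (h1.add h2 (by rw [form_bl]; decide) (s / q)).smul q
    rw [bl_smul, bl_add, bl_smul] at h3
    have h4 : q * (s / q) = s := mul_div_cancel₀ s hq
    simpa [h4] using h3

theorem both (q s q' s' : F4) (h : q ≠ 0 ∨ s ≠ 0) (h' : q' ≠ 0 ∨ s' ≠ 0) :
    ∃ q'' s'' : F4, q * s'' + s * q'' ≠ 0 ∧ q'' * s' + s'' * q' ≠ 0 := by
  revert q s q' s'
  decide +kernel

theorem form_eq (q s q' s' : F4) : q * (s + s') + s * (q + q') = q * s' + s * q' := by
  revert q s q' s'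
  decide +kernel

theorem tr_mix (hB : ∀ q s, Tr H (bl 0 q 0 s)) {p q r s : F4} (h : Tr H (bl p q r s)) (hqs : q ≠ 0 ∨ s ≠ 0)
    {q' s' : F4} (hqs' : q' ≠ 0 ∨ s' ≠ 0) : Tr H (bl p q' r s') := by
  have key : ∀ {q s q' s' : F4}, Tr H (bl p q r s) → q * s' + s * q' ≠ 0 → Tr H (bl p q' r s') := by
    intro q s q' s' h1 h2
    have h3 : q * (s + s') + s * (q + q') ≠ 0 := by rwa [form_eq]
    have h4 := h1.add (hB (q + q') (s + s')) (by
      rw [form_bl]
      simpa using h3) 1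
    rw [one_smul, bl_add] at h4
    have h5 : ∀ q q' : F4, q + (q + q') = q' := by decide
    rwa [h5, h5, add_zero, add_zero] at h4
  obtain ⟨q'', s'', h1, h2⟩ := both q s q' s' hqs hqs'
  exact key (key h h1) h2

/-- the element of order 5 -/
def ya : G := ⟨Y1, SymplecticGroup.mem_iff.2 Y1_sp⟩

theorem Y1_mulVec : ∀ p q r s : F4, Y1.mulVec (bl p q r s) = bl r q (p + .w * r) s := by
  intro p q r s
  have : ∀ x : V4, Y1.mulVec x = bl (x (.inr 0)) (x (.inl 1)) (x (.inl 0) + .w * x (.inr 0)) (x (.inr 1)) := by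
    decide +kernel
  exact this _

theorem tr_a (ha : ya ∈ H) {p q r s : F4} (h : Tr H (bl p q r s)) (hpr : p ≠ 0 ∨ r ≠ 0) {p' r' : F4}
    (hpr' : p' ≠ 0 ∨ r' ≠ 0) : ∃ l : F4, l ≠ 0 ∧ Tr H (bl p' (l * q) r' (l * s)) := by
  have h1 : ∀ {p r : F4}, Tr H (bl p q r s) → Tr H (bl r q (p + .w * r) s) := by
    intro p r h2
    have h3 := h2.act ha
    have h4 : ((ya : G) : M4).mulVec (bl p q r s) = bl r q (p + .w * r) s := Y1_mulVec p q r s
    rwa [h4] at h3
  have h2 : ∀ n : ℕ, Tr H (bl ((fun x : F4 × F4 => (x.2, x.1 + .w * x.2))^[n] (p, r)).1 q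
      ((fun x : F4 × F4 => (x.2, x.1 + .w * x.2))^[n] (p, r)).2 s) := by
    intro n
    induction n with
    | zero => exact h
    | succ n ih =>
      rw [Function.iterate_succ_apply']
      exact h1 ih
  have h3 : ∀ p r p' r' : F4, (p ≠ 0 ∨ r ≠ 0) → (p' ≠ 0 ∨ r' ≠ 0) → ∃ n : Fin 5, ∃ l : F4, l ≠ 0 ∧
      l * ((fun x : F4 × F4 => (x.2, x.1 + .w * x.2))^[(n : ℕ)] (p, r)).1 = p' ∧
      l * ((fun x : F4 × F4 => (x.2, x.1 + .w * x.2))^[(n : ℕ)] (p, r)).2 = r' := by
    decide +kernel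
  obtain ⟨n, l, hl, h4, h5⟩ := h3 p r p' r' hpr hpr'
  refine ⟨l, hl, ?_⟩
  have h6 := (h2 n).smul l
  rw [bl_smul, h4, h5] at h6
  exact h6

theorem tr_pure (ha : ya ∈ H) {p q r s : F4} (h : Tr H (bl p q r s)) (hpr : p ≠ 0 ∨ r ≠ 0) (p' r' : F4) :
    Tr H (bl p' 0 r' 0) := by
  by_cases hz : p' ≠ 0 ∨ r' ≠ 0
  · have h1 := h.act ha
    have h4 : ((ya : G) : M4).mulVec (bl p q r s) = bl r q (p + .w * r) s := Y1_mulVec p q r s
    rw [h4] at h1
    have h2 : ∀ p q r s : F4, (p ≠ 0 ∨ r ≠ 0) → p * (p + .w * r) + r * r + q * s + s * q ≠ 0 := by decide +kernel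
    have h3 := h.add h1 (by rw [form_bl]; exact h2 p q r s hpr) 1
    rw [one_smul, bl_add] at h3
    have h5 : ∀ q : F4, q + q = 0 := by decide
    rw [h5, h5] at h3
    have h6 : ∀ p r : F4, (p ≠ 0 ∨ r ≠ 0) → (p + r ≠ 0 ∨ r + (p + .w * r) ≠ 0) := by decide +kernel
    obtain ⟨l, hl, h7⟩ := tr_a ha h3 (h6 p r hpr) hz
    simpa using h7
  · push Not at hz
    rw [hz.1, hz.2, ← bl_zero]
    exact tr_zero

/-- **closure**: a subgroup with all the transvections of `B`, the element `a` and a mixed transvection -/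
theorem eq_top_of_mix (ha : ya ∈ H) (hB : ∀ q s, Tr H (bl 0 q 0 s)) {p q r s : F4} (h : Tr H (bl p q r s))
    (hpr : p ≠ 0 ∨ r ≠ 0) (hqs : q ≠ 0 ∨ s ≠ 0) : H = ⊤ := by
  have hall : ∀ x : V4, Tr H x := by
    intro x
    rw [bl_eta x]
    generalize x (.inl 0) = p'
    generalize x (.inl 1) = q'
    generalize x (.inr 0) = r'
    generalize x (.inr 1) = s'
    by_cases h1 : p' ≠ 0 ∨ r' ≠ 0
    · by_cases h2 : q' ≠ 0 ∨ s' ≠ 0
      · obtain ⟨l, hl, h3⟩ := tr_a ha h hpr h1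
        refine tr_mix hB h3 ?_ h2
        rcases hqs with h4 | h4
        · exact Or.inl (mul_ne_zero hl h4)
        · exact Or.inr (mul_ne_zero hl h4)
      · push Not at h2
        rw [h2.1, h2.2]
        exact tr_pure ha h hpr p' r'
    · push Not at h1
      rw [h1.1, h1.2]
      exact hB _ _
  have hgen : transvGroup 2 F4 = ⊤ := Cfsg.Agent.S0765.result 2
  rw [eq_top_iff, ← hgen]
  refine (Subgroup.closure_le H).2 ?_
  rintro A ⟨w, c, hA⟩
  have : A = transv w c := Subtype.ext hA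
  rw [this]
  exact hall w c

end Cfsg.Agent.H916.Der.Four
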