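import Cfsg.Agent.H547.Der.Gen

/-!
# Orbits of subgroups: congruences (helper916, for S3502)
-/

set_option autoImplicit false

namespace Cfsg.Agent.H916.Der

open MulAction Cfsg.Agent.H439.Der Cfsg.Agent.H547.Der

/-- `y ^ p ^ N = 1`, `y ^ p ^ k` without fixed points on the invariant set `Y`: `p ^ (k + 1) ∣ |Y|` -/
theorem pow_dvd {G X : Type*} [Group G] [MulAction G X] {p : ℕ} (hp : p.Prime) {y : G} {N k : ℕ}
    (hy : y ^ p ^ N = 1) (Y : Set X) [Finite Y]
    (hinv : ∀ x ∈ Y, y • x ∈ Y) (hfix : ∀ x ∈ Y, y ^ p ^ k • x ≠ x) : p ^ (k + 1) ∣ Nat.card Y := by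
  classical
  have hpN : 0 < p ^ N := pow_pos hp.pos N
  have hfo : IsOfFinOrder y := isOfFinOrder_iff_pow_eq_one.2 ⟨p ^ N, hpN, hy⟩
  have hpow : ∀ n : ℕ, ∀ x ∈ Y, y ^ n • x ∈ Y := by
    intro n
    induction n with
    | zero => intro x hx; rwa [pow_zero, one_smul]
    | succ n ih => intro x hx; rw [pow_succ', mul_smul]; exact hinv _ (ih x hx)
  let : MulAction (Subgroup.zpowers y) Y := setAct (Subgroup.zpowers y) Y (by
    intro m hm x hx
    obtain ⟨n, rfl⟩ := hfo.mem_powers_iff_mem_zpowers.2 hm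
    exact hpow n x hx)
  refine dvd_card_of_orbits (M := Subgroup.zpowers y) fun x => ?_
  have hcy : Nat.card (Subgroup.zpowers y) ∣ p ^ N := by
    rw [Nat.card_zpowers]
    exact orderOf_dvd_of_pow_eq_one hy
  have : Finite (Subgroup.zpowers y) := Nat.finite_of_card_ne_zero fun h => by
    rw [h] at hcy
    exact hpN.ne' (Nat.eq_zero_of_zero_dvd hcy)
  set K := stabilizer (Subgroup.zpowers y) x with hK
  have h1 : K.index = Nat.card (orbit (Subgroup.zpowers y) x) := index_stabilizer _ x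
  rw [← h1]
  have h2 : K.index ∣ p ^ N := K.index_dvd_card.trans hcy
  obtain ⟨j, hj, hj2⟩ := (Nat.dvd_prime_pow hp).1 h2
  by_cases hj3 : k + 1 ≤ j
  · rw [hj2]; exact pow_dvd_pow p hj3
  exfalso
  have hn : K.Normal := by
    refine ⟨fun a ha g => ?_⟩
    have hc : g * a = a * g := by
      obtain ⟨_, i, rfl⟩ := g
      obtain ⟨_, k, rfl⟩ := a
      apply Subtype.ext
      show y ^ i * y ^ k = y ^ k * y ^ i
      rw [← zpow_add, ← zpow_add, add_comm]
    rw [hc, mul_inv_cancel_right]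
    exact ha
  have h3 : (⟨y, Subgroup.mem_zpowers y⟩ : Subgroup.zpowers y) ^ K.index ∈ K := Subgroup.pow_index_mem K _
  have h4 : (⟨y, Subgroup.mem_zpowers y⟩ : Subgroup.zpowers y) ^ p ^ k ∈ K := by
    have h5 : K.index ∣ p ^ k := by
      rw [hj2]
      exact pow_dvd_pow p (by omega)
    obtain ⟨c, hc⟩ := h5
    rw [hc, pow_mul]
    exact K.pow_mem h3 c
  rw [hK, mem_stabilizer_iff] at h4
  exact hfix x x.2 (congrArg Subtype.val h4)

section

variable {G X : Type*} [Group G] [MulAction G X] {M : Subgroup G} {Mi : X → Prop}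

theorem orbit_inv' {v : X} {g : G} (hg : g ∈ M) : ∀ u ∈ orbit M v, g • u ∈ orbit M v := by
  rintro u ⟨m, rfl⟩
  exact ⟨⟨g, hg⟩ * m, mul_smul (⟨g, hg⟩ : M) m v⟩

theorem mi_of_mem (hMi : ∀ (g : G) (x : X), Mi x → Mi (g • x)) {q : X} (hq : Mi q) : ∀ u ∈ orbit M q, Mi u := by
  rintro u ⟨m, rfl⟩
  exact hMi (m : G) q hq

theorem card_orbit_le' [Finite X] (hMi : ∀ (g : G) (x : X), Mi x → Mi (g • x)) {q : X} (hq : Mi q) {N : ℕ}
    (hN : Nat.card {x : X // Mi x} ≤ N) : Nat.card (orbit M q) ≤ N := by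
  refine le_trans ?_ hN
  exact Nat.card_le_card_of_injective (fun u : orbit M q => (⟨u.1, mi_of_mem hMi hq u.1 u.2⟩ : {x : X // Mi x}))
    fun a b h => Subtype.ext (congrArg (fun x : {x : X // Mi x} => (x : X)) h)

theorem card_orbit_dvd [Finite G] (q : X) : Nat.card (orbit M q) ∣ Nat.card M := by
  rw [Nat.card_coe_set_eq, ← index_stabilizer]
  exact Subgroup.index_dvd_card _

theorem card_orbit_mul [Finite G] (v : X) : Nat.card (orbit M v) * Nat.card (stabilizer M v) = Nat.card M := by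
  rw [Nat.card_coe_set_eq, ← index_stabilizer]
  exact Subgroup.index_mul_card _

/-- type of `t12` -/
def P12 (Mi : X → Prop) (t : G) : Prop :=
  ∃ q a b c : X, Mi q ∧ t • q = q ∧ t • a = b ∧ t • b = c ∧ t • c = a ∧ a ≠ b ∧ b ≠ c ∧ a ≠ c ∧ q ≠ a ∧ q ≠ b ∧ q ≠ c ∧
    (∀ x, Mi x → t ^ 4 • x = x → x = q) ∧ ∀ x, Mi x → t ^ 6 • x = x → x = q ∨ x = a ∨ x = b ∨ x = c

/-- type of `z15` -/
def P15 (Mi : X → Prop) (z : G) : Prop :=
  ∃ a b c : X, z ^ 5 • a = b ∧ z ^ 5 • b = c ∧ z ^ 5 • c = a ∧ a ≠ b ∧ b ≠ c ∧ a ≠ c ∧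
    z ^ 3 • a = a ∧ z ^ 3 • b = b ∧ z ^ 3 • c = c ∧
    ∀ x, Mi x → z ^ 3 • x = x → x = a ∨ x = b ∨ x = c

/-- type of `w9` -/
def P9 (Mi : X → Prop) (w : G) : Prop :=
  ∃ q : X, Mi q ∧ w • q = q ∧ ∀ x, Mi x → w ^ 3 • x = x → x = q

/-- no fixed points -/
def PN (Mi : X → Prop) (t : G) : Prop := ∀ x, Mi x → t • x ≠ x

theorem conj_smul (k t : G) (x : X) : (k * t * k⁻¹) • k • x = k • t • x := by
  rw [smul_smul, smul_smul, inv_mul_cancel_right]

theorem conj_smul' (k t : G) (x : X) : (k * t * k⁻¹) • x = k • t • k⁻¹ • x := by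
  rw [smul_smul, smul_smul, mul_assoc]

theorem PN.conj (hMi : ∀ (g : G) (x : X), Mi x → Mi (g • x)) {t : G} (h : PN Mi t) (k : G) : PN Mi (k * t * k⁻¹) := by
  intro x hx h1
  rw [conj_smul'] at h1
  refine h (k⁻¹ • x) (hMi _ _ hx) ?_
  conv_rhs => rw [← h1]
  rw [inv_smul_smul]

theorem P12.conj (hMi : ∀ (g : G) (x : X), Mi x → Mi (g • x)) {t : G} (h : P12 Mi t) (k : G) :
    P12 Mi (k * t * k⁻¹) := by
  obtain ⟨q, a, b, c, h1, h2, h3, h4, h5, h6, h7, h8, h9, h10, h11, h12, h13⟩ := h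
  have hi := MulAction.injective (β := X) k
  have key : ∀ n : ℕ, ∀ x : X, (k * t * k⁻¹) ^ n • x = x → t ^ n • k⁻¹ • x = k⁻¹ • x := by
    intro n x hx
    rw [conj_pow, conj_smul'] at hx
    conv_rhs => rw [← hx]
    rw [inv_smul_smul]
  refine ⟨k • q, k • a, k • b, k • c, hMi _ _ h1, ?_, ?_, ?_, ?_, hi.ne h6, hi.ne h7, hi.ne h8, hi.ne h9, hi.ne h10,
    hi.ne h11, fun x hx hx2 => ?_, fun x hx hx2 => ?_⟩
  · rw [conj_smul, h2]
  · rw [conj_smul, h3]
  · rw [conj_smul, h4]
  · rw [conj_smul, h5]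
  · rw [← h12 (k⁻¹ • x) (hMi _ _ hx) (key 4 x hx2), smul_inv_smul]
  · rcases h13 (k⁻¹ • x) (hMi _ _ hx) (key 6 x hx2) with h | h | h | h
    · left; rw [← h, smul_inv_smul]
    · right; left; rw [← h, smul_inv_smul]
    · right; right; left; rw [← h, smul_inv_smul]
    · right; right; right; rw [← h, smul_inv_smul]

theorem orderOf_pow_of {G : Type*} [Group G] {x : G} {n m : ℕ} (hn : 0 < n) (h : orderOf x = n * m) :
    orderOf (x ^ n) = m := by
  rw [orderOf_pow_of_dvd hn.ne' (by rw [h]; exact dvd_mul_right n m), h, Nat.mul_div_cancel_left m hn]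

/-- `t` of order 12 and `z` of order 15 -/
theorem lemA [Finite X] [Finite G] (hMi : ∀ (g : G) (x : X), Mi x → Mi (g • x)) (hN : Nat.card {x : X // Mi x} ≤ 28)
    {t z : G} (ht : P12 Mi t) (hz : P15 Mi z) (htM : t ∈ M) (hzM : z ∈ M) (hto : orderOf t = 12)
    (hzo : orderOf z = 15) : 13 ∣ Nat.card M ∨ 25 ∣ Nat.card M ∨ 28 ∣ Nat.card M := by
  obtain ⟨q, a, b, c, h1, h2, h3, h4, h5, h6, h7, h8, h9, h10, h11, h12, h13⟩ := ht
  have hle := card_orbit_le' (M := M) hMi h1 hN
  have hd := card_orbit_dvd (M := M) q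
  have hmi := mi_of_mem (M := M) hMi h1
  have hqO : q ∈ orbit M q := mem_orbit_self q
  -- mod 3
  have hm3 : Nat.card (orbit M q) ≡ 1 [MOD 3] := by
    have h := Cfsg.Agent.H503.El.Fix.card_mod (by norm_num) (orderOf_pow_of (n := 4) (m := 3) (by norm_num) hto)
      (orbit M q) (orbit_inv' (pow_mem htM 4))
    have hc : Nat.card {x : X // x ∈ orbit M q ∧ t ^ 4 • x = x} = 1 := by
      rw [Nat.card_eq_one_iff_unique]
      refine ⟨⟨fun u v => Subtype.ext ?_⟩, ⟨⟨q, hqO, ?_⟩⟩⟩
      · rw [h12 _ (hmi _ u.2.1) u.2.2, h12 _ (hmi _ v.2.1) v.2.2]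
      · rw [show t ^ 4 = t * t * t * t by rw [pow_succ, pow_succ, pow_succ, pow_one], mul_smul, mul_smul, mul_smul,
          h2, h2, h2, h2]
    rwa [hc] at h
  -- mod 5
  have hm5 : Nat.card (orbit M q) ≡ 0 [MOD 5] ∨ Nat.card (orbit M q) ≡ 3 [MOD 5] := by
    obtain ⟨a', b', c', g1, g2, g3, g4, g5, g6, g7, g8, g9, g10⟩ := hz
    have h := Cfsg.Agent.H503.El.Fix.card_mod (by norm_num) (orderOf_pow_of (n := 3) (m := 5) (by norm_num) hzo)
      (orbit M q) (orbit_inv' (pow_mem hzM 3))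
    have hz5 := orbit_inv' (M := M) (v := q) (pow_mem hzM 5)
    by_cases hex : ∃ x, x ∈ orbit M q ∧ z ^ 3 • x = x
    · right
      obtain ⟨x, hx, hx3⟩ := hex
      have hall : a' ∈ orbit M q ∧ b' ∈ orbit M q ∧ c' ∈ orbit M q := by
        rcases g10 x (hmi x hx) hx3 with rfl | rfl | rfl
        · have hb := hz5 _ hx
          rw [g1] at hb
          have hc := hz5 _ hb
          rw [g2] at hc
          exact ⟨hx, hb, hc⟩
        · have hc := hz5 _ hx
          rw [g2] at hc
          have ha := hz5 _ hc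
          rw [g3] at ha
          exact ⟨ha, hx, hc⟩
        · have ha := hz5 _ hx
          rw [g3] at ha
          have hb := hz5 _ ha
          rw [g1] at hb
          exact ⟨ha, hb, hx⟩
      have hset : {x : X | x ∈ orbit M q ∧ z ^ 3 • x = x} = {a', b', c'} := by
        ext x
        rw [Set.mem_insert_iff, Set.mem_insert_iff, Set.mem_singleton_iff]
        constructor
        · rintro ⟨hx, hx2⟩
          exact g10 x (hmi x hx) hx2
        · rintro (rfl | rfl | rfl)
          · exact ⟨hall.1, g7⟩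
          · exact ⟨hall.2.1, g8⟩
          · exact ⟨hall.2.2, g9⟩
      have hc : Nat.card {x : X // x ∈ orbit M q ∧ z ^ 3 • x = x} = 3 := by
        have : Nat.card {x : X // x ∈ orbit M q ∧ z ^ 3 • x = x} = ({a', b', c'} : Set X).ncard := by
          rw [← hset]
          exact Nat.card_coe_set_eq _
        classical
        have h9 : ({a', b', c'} : Set X) = (({a', b', c'} : Finset X) : Set X) := by ext; simp
        rw [this, h9, Set.ncard_coe_finset, Finset.card_eq_three]
        exact ⟨a', b', c', g4, g6, g5, rfl⟩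
      rwa [hc] at h
    · left
      have hie : IsEmpty {x : X // x ∈ orbit M q ∧ z ^ 3 • x = x} := ⟨fun x => hex ⟨x.1, x.2⟩⟩
      have hc : Nat.card {x : X // x ∈ orbit M q ∧ z ^ 3 • x = x} = 0 := Nat.card_of_isEmpty
      rwa [hc] at h
  -- mod 4
  have ht3 : ∀ x : X, t ^ 3 • x = t • t • t • x := by
    intro x
    rw [show t ^ 3 = t * t * t by rw [pow_succ, pow_succ, pow_one], mul_smul, mul_smul]
  have hfq : t ^ 3 • q = q := by rw [ht3, h2, h2, h2]
  have hfa : t ^ 3 • a = a := by rw [ht3, h3, h4, h5]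
  have hfb : t ^ 3 • b = b := by rw [ht3, h4, h5, h3]
  have hfc : t ^ 3 • c = c := by rw [ht3, h5, h3, h4]
  have hm4 : 4 ∣ (orbit M q \ {q, a, b, c}).ncard := by
    have := pow_dvd (p := 2) (y := t ^ 3) (N := 2) (k := 1) (by norm_num) (by
      rw [← pow_mul]
      norm_num
      rw [← hto, pow_orderOf_eq_one]) (orbit M q \ {q, a, b, c}) (by
      rintro x ⟨hx1, hx2⟩
      refine ⟨orbit_inv' (pow_mem htM 3) x hx1, fun hx3 => hx2 ?_⟩
      have hi := MulAction.injective (β := X) (t ^ 3)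
      simp only [Set.mem_insert_iff, Set.mem_singleton_iff] at hx3 ⊢
      rcases hx3 with h | h | h | h
      · left; exact hi (h.trans hfq.symm)
      · right; left; exact hi (h.trans hfa.symm)
      · right; right; left; exact hi (h.trans hfb.symm)
      · right; right; right; exact hi (h.trans hfc.symm)) (by
      rintro x ⟨hx1, hx2⟩ hx3
      apply hx2
      rw [← pow_mul] at hx3
      norm_num at hx3
      simp only [Set.mem_insert_iff, Set.mem_singleton_iff]
      exact h13 x (hmi x hx1) hx3)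
    norm_num at this
    exact this
  have hsplit := Set.ncard_inter_add_ncard_sdiff_eq_ncard (orbit M q) {q, a, b, c} (Set.toFinite _)
  have hO : Nat.card (orbit M q) = (orbit M q).ncard := rfl
  have hm4' : Nat.card (orbit M q) % 4 = 0 ∨ Nat.card (orbit M q) % 4 = 1 := by
    by_cases ha : a ∈ orbit M q
    · left
      have hb : b ∈ orbit M q := by rw [← h3]; exact orbit_inv' htM a ha
      have hc : c ∈ orbit M q := by rw [← h4]; exact orbit_inv' htM b hb
      have hset : orbit M q ∩ {q, a, b, c} = {q, a, b, c} := by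
        apply Set.inter_eq_self_of_subset_right
        rintro x (rfl | rfl | rfl | rfl)
        · exact hqO
        · exact ha
        · exact hb
        · exact hc
      have h4c : ({q, a, b, c} : Set X).ncard = 4 := by
        classical
        have hs : ({q, a, b, c} : Set X) = (({q, a, b, c} : Finset X) : Set X) := by ext; simp
        rw [hs, Set.ncard_coe_finset, Finset.card_insert_of_notMem, Finset.card_eq_three.2 ⟨a, b, c, h6, h8, h7, rfl⟩]
        simp [h9, h10, h11]
      rw [hset, h4c] at hsplit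
      omega
    · right
      have hb : b ∉ orbit M q := by
        intro hb
        apply ha
        have hc := orbit_inv' htM b hb
        rw [h4] at hc
        have := orbit_inv' htM c hc
        rwa [h5] at this
      have hc : c ∉ orbit M q := by
        intro hc
        apply ha
        have := orbit_inv' htM c hc
        rwa [h5] at this
      have hset : orbit M q ∩ {q, a, b, c} = {q} := by
        ext x
        simp only [Set.mem_inter_iff, Set.mem_insert_iff, Set.mem_singleton_iff]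
        constructor
        · rintro ⟨hx, rfl | rfl | rfl | rfl⟩
          · rfl
          · exact absurd hx ha
          · exact absurd hx hb
          · exact absurd hx hc
        · rintro rfl
          exact ⟨hqO, Or.inl rfl⟩
      rw [hset, Set.ncard_singleton] at hsplit
      omega
  generalize hn : Nat.card (orbit M q) = n at *
  have hpos : 0 < n := by
    rw [← hn]
    have : Nonempty (orbit M q) := ⟨⟨q, hqO⟩⟩
    exact Nat.card_pos
  unfold Nat.ModEq at hm3 hm5
  have : n = 13 ∨ n = 25 ∨ n = 28 := by omega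
  rcases this with rfl | rfl | rfl
  · left; exact hd
  · right; left; exact hd
  · right; right; exact hd

/-- `w` of order 9 and `t` of order 8 -/
theorem lemB [Finite X] [Finite G] (hMi : ∀ (g : G) (x : X), Mi x → Mi (g • x)) (hN : Nat.card {x : X // Mi x} ≤ 28)
    {w t : G} (hw : P9 Mi w) (ht : PN Mi (t ^ 2)) (hwM : w ∈ M) (htM : t ∈ M) (hwo : w ^ 9 = 1)
    (hto : t ^ 8 = 1) : 28 ∣ Nat.card M := by
  obtain ⟨q, h1, h2, h3⟩ := hw
  have hle := card_orbit_le' (M := M) hMi h1 hN
  have hd := card_orbit_dvd (M := M) q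
  have hmi := mi_of_mem (M := M) hMi h1
  have hqO : q ∈ orbit M q := mem_orbit_self q
  have hm4 : 4 ∣ Nat.card (orbit M q) := by
    have := pow_dvd (p := 2) (y := t) (N := 3) (k := 1) (by norm_num) (by norm_num; exact hto) (orbit M q)
      (orbit_inv' htM) (by
        intro x hx h
        rw [pow_one] at h
        exact ht x (hmi x hx) h)
    norm_num at this
    exact this
  have hm9 : 9 ∣ (orbit M q \ {q}).ncard := by
    have := pow_dvd (p := 3) (y := w) (N := 2) (k := 1) (by norm_num) (by norm_num; exact hwo) (orbit M q \ {q})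
      (by
        rintro x ⟨hx1, hx2⟩
        refine ⟨orbit_inv' hwM x hx1, fun hx3 => hx2 ?_⟩
        have hi := MulAction.injective (β := X) w
        rw [Set.mem_singleton_iff] at hx3 ⊢
        exact hi (hx3.trans h2.symm)) (by
        rintro x ⟨hx1, hx2⟩ hx3
        rw [pow_one] at hx3
        exact hx2 (h3 x (hmi x hx1) hx3))
    rwa [show 3 ^ (1 + 1) = 9 by norm_num] at this
  have hsplit := Set.ncard_sdiff_singleton_add_one hqO (Set.toFinite _)
  have hO : Nat.card (orbit M q) = (orbit M q).ncard := rfl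
  have : Nat.card (orbit M q) = 28 := by omega
  rwa [this] at hd

/-- an element of order 7 and an element of order 3 -/
theorem lemC [Finite X] [Finite G] {Pl : X → Prop} (hPl : ∀ (g : G) (x : X), Pl x → Pl (g • x))
    (hN : Nat.card {x : X // Pl x} ≤ 36) {x c : G} {q : X} (hq : Pl q) (hxq : x • q = q)
    (hx : ∀ y, Pl y → x • y = y → y = q) (hc : PN Pl c) (hxM : x ∈ M) (hcM : c ∈ M) (hxo : orderOf x = 7)
    (hco : orderOf c = 3) : Nat.card (orbit M q) = 15 ∨ Nat.card (orbit M q) = 36 := by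
  have hle := card_orbit_le' (M := M) hPl hq hN
  have hmi := mi_of_mem (M := M) hPl hq
  have hqO : q ∈ orbit M q := mem_orbit_self q
  have hm7 : Nat.card (orbit M q) ≡ 1 [MOD 7] := by
    have h := Cfsg.Agent.H503.El.Fix.card_mod (by norm_num) hxo (orbit M q) (orbit_inv' hxM)
    have hc : Nat.card {y : X // y ∈ orbit M q ∧ x • y = y} = 1 := by
      rw [Nat.card_eq_one_iff_unique]
      refine ⟨⟨fun u v => Subtype.ext ?_⟩, ⟨⟨q, hqO, hxq⟩⟩⟩
      rw [hx _ (hmi _ u.2.1) u.2.2, hx _ (hmi _ v.2.1) v.2.2]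
    rwa [hc] at h
  have hm3 : 3 ∣ Nat.card (orbit M q) :=
    prime_dvd (by norm_num) hco _ (orbit_inv' hcM) fun u hu h => hc u (hmi u hu) h
  unfold Nat.ModEq at hm7
  omega

end

end Cfsg.Agent.H916.Der
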