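import Cfsg.Agent.H916.Der.SixMat
import Cfsg.Agent.H547.Der.SixB

/-!
# `Sp₆(2)`: the action on the 64 quadratic forms (helper916, for S3502)
-/

set_option autoImplicit false

namespace Cfsg.Agent.H916.Der.Six

open Cfsg.Agent.H547.Der.Six

/-- quadratic forms with polar form `bil` -/
def Fm : Type := {f : V6 → ZMod 2 // ∀ u v, f (u + v) = f u + f v + bil u v}

instance : Finite Fm := inferInstanceAs (Finite {f : V6 → ZMod 2 // ∀ u v, f (u + v) = f u + f v + bil u v})

theorem inv_mulVec (g : G6) (v : V6) : ((g⁻¹ : G6) : M6).mulVec ((g : M6).mulVec v) = v := by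
  rw [Matrix.mulVec_mulVec]
  have : ((g⁻¹ : G6) : M6) * (g : M6) = ((g⁻¹ * g : G6) : M6) := rfl
  rw [this, inv_mul_cancel]
  exact Matrix.one_mulVec v

theorem mulVec_inv (g : G6) (v : V6) : (g : M6).mulVec (((g⁻¹ : G6) : M6).mulVec v) = v := by
  rw [Matrix.mulVec_mulVec]
  have : (g : M6) * ((g⁻¹ : G6) : M6) = ((g * g⁻¹ : G6) : M6) := rfl
  rw [this, mul_inv_cancel]
  exact Matrix.one_mulVec v

/-- the action on forms -/
instance actF : MulAction G6 Fm where
  smul g f := ⟨fun v => f.1 (((g⁻¹ : G6) : M6).mulVec v), fun u v => by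
    show f.1 (((g⁻¹ : G6) : M6).mulVec (u + v)) = f.1 (((g⁻¹ : G6) : M6).mulVec u) +
      f.1 (((g⁻¹ : G6) : M6).mulVec v) + bil u v
    rw [Matrix.mulVec_add, f.2, bil_smul]⟩
  one_smul f := by
    apply Subtype.ext
    funext v
    show f.1 (((1⁻¹ : G6) : M6).mulVec v) = f.1 v
    rw [inv_one]
    exact congrArg f.1 (Matrix.one_mulVec v)
  mul_smul g h f := by
    apply Subtype.ext
    funext v
    show f.1 ((((g * h)⁻¹ : G6) : M6).mulVec v) = f.1 (((h⁻¹ : G6) : M6).mulVec (((g⁻¹ : G6) : M6).mulVec v))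
    rw [Matrix.mulVec_mulVec, mul_inv_rev]
    rfl

theorem smul_val (g : G6) (f : Fm) (v : V6) : (g • f).1 v = f.1 (((g⁻¹ : G6) : M6).mulVec v) := rfl

theorem smul_val' (g : G6) (f : Fm) (v : V6) : (g • f).1 ((g : M6).mulVec v) = f.1 v := by
  rw [smul_val, inv_mulVec]

theorem add_hom_eq_zero (d : V6 →+ ZMod 2) (h : ∀ i : I6, d (Pi.single i 1) = 0) : d = 0 := by
  have h1 : AddMonoidHom.toZModLinearMap 2 d = 0 := by
    apply LinearMap.pi_ext'
    intro i
    apply LinearMap.ext_ring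
    exact h i
  exact DFunLike.ext _ _ fun v => LinearMap.congr_fun h1 v

/-- equality of forms from the values on the basis -/
theorem smul_eq {g : G6} {f f' : Fm} (h : ∀ i : I6, f'.1 ((g : M6).mulVec (Pi.single i 1)) = f.1 (Pi.single i 1)) :
    g • f = f' := by
  have hz : ∀ p : Fm, p.1 0 = 0 := by
    intro p
    have := p.2 0 0
    rw [add_zero] at this
    have hb : bil 0 0 = 0 := by decide +kernel
    rw [hb, add_zero] at this
    have h2 : p.1 0 + p.1 0 = 0 := CharTwo.add_self_eq_zero _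
    rwa [h2] at this
  let d : V6 →+ ZMod 2 :=
    { toFun := fun v => f'.1 ((g : M6).mulVec v) - f.1 v
      map_zero' := by rw [Matrix.mulVec_zero, hz, hz, sub_self]
      map_add' := fun u v => by rw [Matrix.mulVec_add, f'.2, f.2, bil_smul]; ring }
  have hd : d = 0 := add_hom_eq_zero d fun i => by
    show f'.1 ((g : M6).mulVec (Pi.single i 1)) - f.1 (Pi.single i 1) = 0
    rw [h i, sub_self]
  apply Subtype.ext
  funext v
  rw [smul_val]
  have h1 : f'.1 ((g : M6).mulVec (((g⁻¹ : G6) : M6).mulVec v)) - f.1 (((g⁻¹ : G6) : M6).mulVec v) = 0 :=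
    DFunLike.congr_fun hd _
  rw [mulVec_inv] at h1
  exact (sub_eq_zero.1 h1).symm

/-- the form `Q₀` -/
def q0 (v : V6) : ZMod 2 := v (.inl 0) * v (.inr 0) + v (.inl 1) * v (.inr 1) + v (.inl 2) * v (.inr 2)

/-- the forms by codes -/
def fv (n : P6) (v : V6) : ZMod 2 := q0 v + bil (dec n) v

/-- the forms by codes -/
def fq (n : P6) : Fm := ⟨fv n, fun u v => by
  unfold fv q0 bil
  simp only [Pi.add_apply]
  ring⟩

theorem fq_surj (f : Fm) : ∃ n : P6, fq n = f := by
  refine ⟨enc (Sum.elim (fun i => f.1 (Pi.single (.inr i) 1)) (fun i => f.1 (Pi.single (.inl i) 1))), ?_⟩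
  rw [← one_smul G6 (fq _)]
  apply smul_eq
  intro i
  show f.1 ((1 : M6).mulVec (Pi.single i 1)) = fv _ (Pi.single i 1)
  rw [Matrix.one_mulVec]
  unfold fv
  rw [dec_enc]
  rcases i with i | i <;> fin_cases i <;> simp [q0, bil]

set_option maxRecDepth 100000 in
theorem fq_inj_aux : ∀ m : P6, (∀ i : I6, bil (dec m) (Pi.single i 1) = 0) → m = o6 := by decide +kernel

set_option maxRecDepth 100000 in
theorem fq_inj_aux2 : ∀ m n : P6, (∀ i : I6, fv m (Pi.single i 1) = fv n (Pi.single i 1)) → m = n := by decide +kernel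

theorem fq_inj {m n : P6} (h : fq m = fq n) : m = n :=
  fq_inj_aux2 m n fun i => congrFun (congrArg Subtype.val h) (Pi.single i 1)

/-- the number of zeros -/
noncomputable def nz (f : Fm) : ℕ := Nat.card {v : V6 // f.1 v = 0}

theorem nz_smul (g : G6) (f : Fm) : nz (g • f) = nz f := by
  unfold nz
  refine Nat.card_congr ⟨fun v => ⟨((g⁻¹ : G6) : M6).mulVec v.1, v.2⟩, fun v => ⟨(g : M6).mulVec v.1, ?_⟩, fun v => ?_,
    fun v => ?_⟩
  · rw [smul_val']
    exact v.2
  · exact Subtype.ext (mulVec_inv g v.1)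
  · exact Subtype.ext (inv_mulVec g v.1)

set_option maxRecDepth 100000 in
theorem nz_aux : ∀ n : P6, Fintype.card {v : V6 // fv n v = 0} = if q0 (dec n) = 0 then 36 else 28 := by
  decide +kernel

theorem nz_fq (n : P6) : nz (fq n) = if q0 (dec n) = 0 then 36 else 28 := by
  rw [← nz_aux n, ← Nat.card_eq_fintype_card]
  rfl

end Cfsg.Agent.H916.Der.Six
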