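import Cfsg.Agent.H547.Der.SixInst

/-!
# `Sp₆(2)`: more elements (helper916, for S3502)
-/

set_option autoImplicit false

namespace Cfsg.Agent.H916.Der.Six

open Cfsg.Agent.H547.Der.Six

/-- order 6 -/
def W6 : M6 := Matrix.fromBlocks !![0,1,0; 1,1,0; 0,1,0] !![0,0,1; 1,0,1; 0,0,0]
    !![1,0,1; 0,1,0; 0,0,1] !![0,0,0; 1,0,1; 0,1,0]
/-- order 8 -/
def T8 : M6 := Matrix.fromBlocks !![0,1,0; 1,0,1; 0,0,0] !![0,0,0; 0,0,0; 1,0,1]
    !![0,0,0; 0,0,0; 0,0,1] !![0,1,0; 1,0,0; 0,0,0]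
/-- order 12 -/
def T12 : M6 := Matrix.fromBlocks !![1,1,0; 0,0,1; 0,0,0] !![0,1,0; 0,0,0; 1,1,0]
    !![0,0,0; 0,0,0; 1,0,0] !![0,1,0; 0,0,1; 0,0,0]
/-- order 10 -/
def T10 : M6 := Matrix.fromBlocks !![0,0,0; 0,0,0; 0,0,0] !![0,0,1; 1,0,0; 0,1,0]
    !![0,0,1; 1,0,0; 0,1,0] !![1,0,0; 0,0,1; 0,0,0]

set_option maxRecDepth 100000 in
theorem W6_props : W6 * Matrix.J (Fin 3) (ZMod 2) * W6.transpose = Matrix.J (Fin 3) (ZMod 2) ∧
    W6 * W6 * (W6 * W6) = C3 ∧ W6 * (W6 * W6) ≠ 1 ∧ W6 * (W6 * W6) * (W6 * (W6 * W6)) = 1 := by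
  decide +kernel

set_option maxRecDepth 100000 in
theorem T8_props : T8 * Matrix.J (Fin 3) (ZMod 2) * T8.transpose = Matrix.J (Fin 3) (ZMod 2) ∧
    T8 * T8 * (T8 * T8) ≠ 1 ∧ T8 * T8 * (T8 * T8) * (T8 * T8 * (T8 * T8)) = 1 := by
  decide +kernel

set_option maxRecDepth 100000 in
theorem T12_props : T12 * Matrix.J (Fin 3) (ZMod 2) * T12.transpose = Matrix.J (Fin 3) (ZMod 2) ∧
    T12 * T12 * (T12 * T12) ≠ 1 ∧ T12 * T12 * (T12 * T12) * (T12 * T12) ≠ 1 ∧
    T12 * T12 * (T12 * T12) * (T12 * T12 * (T12 * T12)) * (T12 * T12 * (T12 * T12)) = 1 := by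
  decide +kernel

set_option maxRecDepth 100000 in
theorem T10_props : T10 * Matrix.J (Fin 3) (ZMod 2) * T10.transpose = Matrix.J (Fin 3) (ZMod 2) ∧
    T10 * T10 ≠ 1 ∧ T10 * T10 * (T10 * T10) * T10 ≠ 1 ∧
    T10 * T10 * (T10 * T10) * T10 * (T10 * T10 * (T10 * T10) * T10) = 1 := by
  decide +kernel

/-- order 6 -/
def w6 : G6 := ⟨W6, SymplecticGroup.mem_iff.2 W6_props.1⟩
/-- order 8 -/
def t8 : G6 := ⟨T8, SymplecticGroup.mem_iff.2 T8_props.1⟩
/-- order 12 -/
def t12 : G6 := ⟨T12, SymplecticGroup.mem_iff.2 T12_props.1⟩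
/-- order 10 -/
def t10 : G6 := ⟨T10, SymplecticGroup.mem_iff.2 T10_props.1⟩

theorem pow4 {G : Type*} [Monoid G] (x : G) : x ^ 4 = x * x * (x * x) := by
  rw [show 4 = 2 + 2 by norm_num, pow_add, pow_two]

theorem pow3 {G : Type*} [Monoid G] (x : G) : x ^ 3 = x * (x * x) := by
  rw [show 3 = 1 + 2 by norm_num, pow_add, pow_two, pow_one]

theorem w6_pow4 : w6 ^ 4 = w9 ^ 3 := by
  apply Subtype.ext
  rw [coe_c3, pow4]
  exact W6_props.2.1

theorem w6_pow3 : w6 ^ 3 ≠ 1 := by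
  intro h
  apply W6_props.2.2.1
  have := congrArg Subtype.val h
  rw [pow3] at this
  exact this

theorem w6_pow6 : w6 ^ 6 = 1 := by
  apply Subtype.ext
  rw [show 6 = 3 * 2 by norm_num, pow_mul, pow_two, pow3]
  exact W6_props.2.2.2

/-- the order from the maximal proper divisors -/
theorem order_of {G : Type*} [Group G] {x : G} {n : ℕ} (hn : 0 < n) (h1 : x ^ n = 1)
    (h : ∀ p : ℕ, p.Prime → p ∣ n → x ^ (n / p) ≠ 1) : orderOf x = n :=
  orderOf_eq_of_pow_and_pow_div_prime hn h1 h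

theorem order_w6 : orderOf w6 = 6 := by
  refine order_of (by norm_num) w6_pow6 fun p hp hd => ?_
  have h1 : p ∈ Nat.primeFactors 6 := Nat.mem_primeFactors.2 ⟨hp, hd, by norm_num⟩
  rw [show Nat.primeFactors 6 = {2, 3} by decide +kernel] at h1
  simp only [Finset.mem_insert, Finset.mem_singleton] at h1
  rcases h1 with rfl | rfl
  · exact w6_pow3
  · intro h
    have h2 : w6 ^ 4 = 1 := by
      rw [show 4 = (6 / 3) * 2 by norm_num, pow_mul, h, one_pow]
    rw [w6_pow4] at h2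
    have h3 := order_c3
    rw [h2, orderOf_one] at h3
    norm_num at h3

theorem t8_pow8 : t8 ^ 8 = 1 := by
  apply Subtype.ext
  rw [show 8 = 4 * 2 by norm_num, pow_mul, pow_two, pow4]
  exact T8_props.2.2

theorem order_t8 : orderOf t8 = 8 := by
  refine order_of (by norm_num) t8_pow8 fun p hp hd => ?_
  have h1 : p ∈ Nat.primeFactors 8 := Nat.mem_primeFactors.2 ⟨hp, hd, by norm_num⟩
  rw [show Nat.primeFactors 8 = {2} by decide +kernel] at h1
  simp only [Finset.mem_singleton] at h1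
  subst h1
  intro h
  apply T8_props.2.1
  have := congrArg Subtype.val h
  rw [show 8 / 2 = 4 by norm_num, pow4] at this
  exact this

theorem t12_pow12 : t12 ^ 12 = 1 := by
  apply Subtype.ext
  rw [show 12 = 4 * 3 by norm_num, pow_mul, pow_succ, pow_two, pow4]
  exact T12_props.2.2.2

theorem t12_pow4 : t12 ^ 4 ≠ 1 := by
  intro h
  apply T12_props.2.1
  have := congrArg Subtype.val h
  rw [pow4] at this
  exact this

theorem t12_pow6 : t12 ^ 6 ≠ 1 := by
  intro h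
  apply T12_props.2.2.1
  have := congrArg Subtype.val h
  rw [show 6 = 4 + 2 by norm_num, pow_add, pow4, pow_two] at this
  exact this

theorem order_t12 : orderOf t12 = 12 := by
  refine order_of (by norm_num) t12_pow12 fun p hp hd => ?_
  have h1 : p ∈ Nat.primeFactors 12 := Nat.mem_primeFactors.2 ⟨hp, hd, by norm_num⟩
  rw [show Nat.primeFactors 12 = {2, 3} by decide +kernel] at h1
  simp only [Finset.mem_insert, Finset.mem_singleton] at h1
  rcases h1 with rfl | rfl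
  · exact t12_pow6
  · exact t12_pow4

theorem order_t10 : orderOf t10 = 10 := by
  refine order_of (by norm_num) ?_ fun p hp hd => ?_
  · apply Subtype.ext
    rw [show 10 = 5 * 2 by norm_num, pow_mul, pow_two, show 5 = 4 + 1 by norm_num, pow_add, pow4, pow_one]
    exact T10_props.2.2.2
  have h1 : p ∈ Nat.primeFactors 10 := Nat.mem_primeFactors.2 ⟨hp, hd, by norm_num⟩
  rw [show Nat.primeFactors 10 = {2, 5} by decide +kernel] at h1
  simp only [Finset.mem_insert, Finset.mem_singleton] at h1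
  rcases h1 with rfl | rfl
  · intro h
    apply T10_props.2.2.1
    have := congrArg Subtype.val h
    rw [show 10 / 2 = 4 + 1 by norm_num, pow_add, pow4, pow_one] at this
    exact this
  · intro h
    apply T10_props.2.1
    have := congrArg Subtype.val h
    rw [show 10 / 5 = 2 by norm_num, pow_two] at this
    exact this

end Cfsg.Agent.H916.Der.Six
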