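import Cfsg.Agent.H916.Der.SixForm
import Cfsg.Agent.H916.Der.Orb

/-!
# `Sp₆(2)`: elements on the 64 quadratic forms (helper916, for S3502)
-/

set_option autoImplicit false

namespace Cfsg.Agent.H916.Der.Six

open Cfsg.Agent.H547.Der.Six Cfsg.Agent.H916.Der

/-- code -/
def mk (n : ℕ) : P6 := (Fin.ofNat 64 n : Fin 64)

/-- table -/
def tb (l : List ℕ) (n : P6) : P6 := mk (l.getD n.1 0)

def tau15 : List ℕ := [62, 21, 28, 55, 1, 42, 35, 8, 31, 52, 61, 22, 32, 11, 2, 41, 47, 4, 13, 38, 16, 59, 50, 25, 14,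
  37, 44, 7, 49, 26, 19, 56, 33, 10, 3, 40, 30, 53, 60, 23, 0, 43, 34, 9, 63, 20, 29, 54, 48, 27, 18, 57, 15, 36, 45, 6,
  17, 58, 51, 24, 46, 5, 12, 39]
def tau9 : List ℕ := [48, 27, 28, 55, 1, 42, 45, 6, 17, 58, 61, 22, 32, 11, 12, 39, 33, 10, 13, 38, 16, 59, 60, 23, 0,
  43, 44, 7, 49, 26, 29, 54, 47, 4, 3, 40, 30, 53, 50, 25, 14, 37, 34, 9, 63, 20, 19, 56, 62, 21, 18, 57, 15, 36, 35, 8,
  31, 52, 51, 24, 46, 5, 2, 41]
def tau7 : List ℕ := [45, 10, 31, 56, 35, 4, 17, 54, 12, 43, 62, 25, 2, 37, 48, 23, 47, 8, 29, 58, 33, 6, 19, 52, 14,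
  41, 60, 27, 0, 39, 50, 21, 34, 5, 16, 55, 44, 11, 30, 57, 3, 36, 49, 22, 13, 42, 63, 24, 32, 7, 18, 53, 46, 9, 28, 59,
  1, 38, 51, 20, 15, 40, 61, 26]
def tau8 : List ℕ := [0, 2, 1, 3, 34, 32, 35, 33, 20, 22, 21, 23, 54, 52, 55, 53, 8, 10, 9, 11, 42, 40, 43, 41, 28, 30,
  29, 31, 62, 60, 63, 61, 4, 6, 5, 7, 38, 36, 39, 37, 16, 18, 17, 19, 50, 48, 51, 49, 12, 14, 13, 15, 46, 44, 47, 45,
  24, 26, 25, 27, 58, 56, 59, 57]
def tau12 : List ℕ := [1, 32, 0, 33, 3, 34, 2, 35, 5, 36, 4, 37, 7, 38, 6, 39, 12, 45, 13, 44, 14, 47, 15, 46, 8, 41,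
  9, 40, 10, 43, 11, 42, 17, 48, 16, 49, 19, 50, 18, 51, 21, 52, 20, 53, 23, 54, 22, 55, 28, 61, 29, 60, 30, 63, 31, 62,
  24, 57, 25, 56, 26, 59, 27, 58]

set_option maxRecDepth 100000 in
theorem tab15 : ∀ n : P6, ∀ i : I6, fv (tb tau15 n) (Z15.mulVec (Pi.single i 1)) = fv n (Pi.single i 1) := by
  decide +kernel

set_option maxRecDepth 100000 in
theorem tab9 : ∀ n : P6, ∀ i : I6, fv (tb tau9 n) (W9.mulVec (Pi.single i 1)) = fv n (Pi.single i 1) := by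
  decide +kernel

set_option maxRecDepth 100000 in
theorem tab7 : ∀ n : P6, ∀ i : I6, fv (tb tau7 n) (X7.mulVec (Pi.single i 1)) = fv n (Pi.single i 1) := by
  decide +kernel

set_option maxRecDepth 100000 in
theorem tab8 : ∀ n : P6, ∀ i : I6, fv (tb tau8 n) (T8.mulVec (Pi.single i 1)) = fv n (Pi.single i 1) := by
  decide +kernel

set_option maxRecDepth 100000 in
theorem tab12 : ∀ n : P6, ∀ i : I6, fv (tb tau12 n) (T12.mulVec (Pi.single i 1)) = fv n (Pi.single i 1) := by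
  decide +kernel

theorem smul15 (n : P6) : z15 • fq n = fq (tb tau15 n) := smul_eq (tab15 n)
theorem smul9 (n : P6) : w9 • fq n = fq (tb tau9 n) := smul_eq (tab9 n)
theorem smul7 (n : P6) : x7 • fq n = fq (tb tau7 n) := smul_eq (tab7 n)
theorem smul8 (n : P6) : t8 • fq n = fq (tb tau8 n) := smul_eq (tab8 n)
theorem smul12 (n : P6) : t12 • fq n = fq (tb tau12 n) := smul_eq (tab12 n)

theorem pow_smul_fq {g : G6} {τ : P6 → P6} (h : ∀ n, g • fq n = fq (τ n)) (k : ℕ) :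
    ∀ n : P6, g ^ k • fq n = fq (τ^[k] n) := by
  induction k with
  | zero => intro n; rw [pow_zero, one_smul]; rfl
  | succ k ih => intro n; rw [pow_succ, mul_smul, h, ih]; rfl

/-- minus forms -/
def Mi (f : Fm) : Prop := nz f = 28

/-- plus forms -/
def Pl (f : Fm) : Prop := nz f = 36

theorem mi_smul (g : G6) (f : Fm) (h : Mi f) : Mi (g • f) := by
  unfold Mi at h ⊢
  rw [nz_smul, h]

theorem pl_smul (g : G6) (f : Fm) (h : Pl f) : Pl (g • f) := by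
  unfold Pl at h ⊢
  rw [nz_smul, h]

theorem mi_fq (n : P6) : Mi (fq n) ↔ q0 (dec n) ≠ 0 := by
  unfold Mi
  rw [nz_fq]
  by_cases h : q0 (dec n) = 0
  · simp [h]
  · simp [h]

theorem pl_fq (n : P6) : Pl (fq n) ↔ q0 (dec n) = 0 := by
  unfold Pl
  rw [nz_fq]
  by_cases h : q0 (dec n) = 0
  · simp [h]
  · simp [h]

theorem mi_or_pl (f : Fm) : Mi f ∨ Pl f := by
  obtain ⟨n, rfl⟩ := fq_surj f
  rw [mi_fq, pl_fq]
  by_cases h : q0 (dec n) = 0
  · exact Or.inr h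
  · exact Or.inl h

theorem card_aux {P : Fm → Prop} {p : P6 → Prop} [DecidablePred p] (h : ∀ n, P (fq n) → p n) :
    Nat.card {f : Fm // P f} ≤ Fintype.card {n : P6 // p n} := by
  classical
  rw [← Nat.card_eq_fintype_card]
  choose ι hι using fq_surj
  refine Nat.card_le_card_of_injective (fun f : {f : Fm // P f} => (⟨ι f.1, h _ (by rw [hι]; exact f.2)⟩ : {n : P6 // p n}))
    fun a b hab => Subtype.ext ?_
  have h1 : ι a.1 = ι b.1 := congrArg Subtype.val hab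
  rw [← hι a.1, ← hι b.1, h1]

set_option maxRecDepth 100000 in
theorem card_mi : Nat.card {f : Fm // Mi f} ≤ 28 := by
  refine (card_aux (p := fun n => q0 (dec n) ≠ 0) fun n h => (mi_fq n).1 h).trans ?_
  have : Fintype.card {n : P6 // q0 (dec n) ≠ 0} = 28 := by decide +kernel
  exact this.le

set_option maxRecDepth 100000 in
theorem card_pl : Nat.card {f : Fm // Pl f} ≤ 36 := by
  refine (card_aux (p := fun n => q0 (dec n) = 0) fun n h => (pl_fq n).1 h).trans ?_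
  have : Fintype.card {n : P6 // q0 (dec n) = 0} = 36 := by decide +kernel
  exact this.le

theorem forall_mi {P : Fm → Prop} (h : ∀ n, q0 (dec n) ≠ 0 → P (fq n)) : ∀ f, Mi f → P f := by
  intro f hf
  obtain ⟨n, rfl⟩ := fq_surj f
  exact h n ((mi_fq n).1 hf)

theorem forall_pl {P : Fm → Prop} (h : ∀ n, q0 (dec n) = 0 → P (fq n)) : ∀ f, Pl f → P f := by
  intro f hf
  obtain ⟨n, rfl⟩ := fq_surj f
  exact h n ((pl_fq n).1 hf)

set_option maxRecDepth 100000 in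
theorem dec12 : ∀ n : P6, q0 (dec n) ≠ 0 → ((tb tau12)^[4] n = n → n = mk 57) ∧
    ((tb tau12)^[6] n = n → n = mk 57 ∨ n = mk 13 ∨ n = mk 38 ∨ n = mk 18) := by decide +kernel

set_option maxRecDepth 100000 in
theorem dec12b : tb tau12 (mk 57) = mk 57 ∧ tb tau12 (mk 13) = mk 38 ∧ tb tau12 (mk 38) = mk 18 ∧
    tb tau12 (mk 18) = mk 13 ∧ q0 (dec (mk 57)) ≠ 0 ∧ mk 13 ≠ mk 38 ∧ mk 38 ≠ mk 18 ∧ mk 13 ≠ mk 18 ∧ mk 57 ≠ mk 13 ∧
    mk 57 ≠ mk 38 ∧ mk 57 ≠ mk 18 := by decide +kernel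

theorem p12 : P12 Mi t12 := by
  obtain ⟨h1, h2, h3, h4, h5, h6, h7, h8, h9, h10, h11⟩ := dec12b
  refine ⟨fq (mk 57), fq (mk 13), fq (mk 38), fq (mk 18), (mi_fq _).2 h5, ?_, ?_, ?_, ?_, fun h => h6 (fq_inj h),
    fun h => h7 (fq_inj h), fun h => h8 (fq_inj h), fun h => h9 (fq_inj h), fun h => h10 (fq_inj h),
    fun h => h11 (fq_inj h), ?_, ?_⟩
  · rw [smul12, h1]
  · rw [smul12, h2]
  · rw [smul12, h3]
  · rw [smul12, h4]
  · refine forall_mi fun n hn h => ?_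
    rw [pow_smul_fq smul12] at h
    rw [(dec12 n hn).1 (fq_inj h)]
  · refine forall_mi fun n hn h => ?_
    rw [pow_smul_fq smul12] at h
    rcases (dec12 n hn).2 (fq_inj h) with rfl | rfl | rfl | rfl
    · exact Or.inl rfl
    · exact Or.inr (Or.inl rfl)
    · exact Or.inr (Or.inr (Or.inl rfl))
    · exact Or.inr (Or.inr (Or.inr rfl))

set_option maxRecDepth 100000 in
theorem dec15 : ∀ n : P6, q0 (dec n) ≠ 0 → ((tb tau15)^[3] n = n → n = mk 51 ∨ n = mk 58 ∨ n = mk 57) := by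
  decide +kernel

set_option maxRecDepth 100000 in
theorem dec15b : (tb tau15)^[5] (mk 51) = mk 58 ∧ (tb tau15)^[5] (mk 58) = mk 57 ∧ (tb tau15)^[5] (mk 57) = mk 51 ∧
    mk 51 ≠ mk 58 ∧ mk 58 ≠ mk 57 ∧ mk 51 ≠ mk 57 ∧ (tb tau15)^[3] (mk 51) = mk 51 ∧ (tb tau15)^[3] (mk 58) = mk 58 ∧
    (tb tau15)^[3] (mk 57) = mk 57 := by
  decide +kernel

theorem p15 : P15 Mi z15 := by
  obtain ⟨h1, h2, h3, h4, h5, h6, h7, h8, h9⟩ := dec15b
  refine ⟨fq (mk 51), fq (mk 58), fq (mk 57), ?_, ?_, ?_, fun h => h4 (fq_inj h),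
    fun h => h5 (fq_inj h), fun h => h6 (fq_inj h), ?_, ?_, ?_, ?_⟩
  · rw [pow_smul_fq smul15, h1]
  · rw [pow_smul_fq smul15, h2]
  · rw [pow_smul_fq smul15, h3]
  · rw [pow_smul_fq smul15, h7]
  · rw [pow_smul_fq smul15, h8]
  · rw [pow_smul_fq smul15, h9]
  · refine forall_mi fun n hn h => ?_
    rw [pow_smul_fq smul15] at h
    rcases dec15 n hn (fq_inj h) with rfl | rfl | rfl
    · exact Or.inl rfl
    · exact Or.inr (Or.inl rfl)
    · exact Or.inr (Or.inr rfl)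

set_option maxRecDepth 100000 in
theorem dec9 : ∀ n : P6, (q0 (dec n) ≠ 0 → (tb tau9)^[3] n = n → n = mk 23) ∧
    (q0 (dec n) = 0 → (tb tau9)^[3] n ≠ n) := by
  decide +kernel

set_option maxRecDepth 100000 in
theorem dec9b : tb tau9 (mk 23) = mk 23 ∧ q0 (dec (mk 23)) ≠ 0 := by decide +kernel

theorem p9 : P9 Mi w9 := by
  refine ⟨fq (mk 23), (mi_fq _).2 dec9b.2, ?_, ?_⟩
  · rw [smul9, dec9b.1]
  · refine forall_mi fun n hn h => ?_
    rw [pow_smul_fq smul9] at h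
    rw [(dec9 n).1 hn (fq_inj h)]

theorem pn3 : PN Pl (w9 ^ 3) := by
  refine forall_pl fun n hn h => ?_
  rw [pow_smul_fq smul9] at h
  exact (dec9 n).2 hn (fq_inj h)

set_option maxRecDepth 100000 in
theorem dec8 : ∀ n : P6, q0 (dec n) ≠ 0 → (tb tau8)^[2] n ≠ n := by decide +kernel

theorem pn8 : PN Mi (t8 ^ 2) := by
  refine forall_mi fun n hn h => ?_
  rw [pow_smul_fq smul8] at h
  exact dec8 n hn (fq_inj h)

set_option maxRecDepth 100000 in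
theorem dec7 : ∀ n : P6, (q0 (dec n) ≠ 0 → tb tau7 n ≠ n) ∧ (q0 (dec n) = 0 → tb tau7 n = n → n = mk 27) := by
  decide +kernel

set_option maxRecDepth 100000 in
theorem dec7b : tb tau7 (mk 27) = mk 27 ∧ q0 (dec (mk 27)) = 0 := by decide +kernel

/-- type of `x7` -/
theorem p7 : PN Mi x7 ∧ ∃ q, Pl q ∧ x7 • q = q ∧ ∀ y, Pl y → x7 • y = y → y = q := by
  refine ⟨forall_mi fun n hn h => ?_, fq (mk 27), (pl_fq _).2 dec7b.2, ?_, forall_pl fun n hn h => ?_⟩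
  · rw [smul7] at h
    exact (dec7 n).1 hn (fq_inj h)
  · rw [smul7, dec7b.1]
  · rw [smul7] at h
    rw [(dec7 n).2 hn (fq_inj h)]

end Cfsg.Agent.H916.Der.Six
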